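import Cfsg.Agent.Components.LBalanceTwo.Main
import Cfsg.Agent.Components.CoprimeKer
import Cfsg.Agent.Components.Structure
import Cfsg.Agent.Components.Local
import Cfsg.Agent.Components.LBalance
import Cfsg.Agent.Coprime.Fitting

/-!
L-balance for the prime two in every finite group.
-/

set_option linter.style.haveILetI false
set_option linter.unusedSectionVars false

namespace Cfsg.Lib.LBalTwo

open Subgroup Cfsg.Lib.Components
open scoped commutatorElement

universe u

theorem odd_index_transfer {A B : Type u} [Group A] [Group B] (e : A ≃* B)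
    (h : ∀ N : Subgroup A, N.Normal → N.index.Coprime 2 → N = ⊤) :
    ∀ N : Subgroup B, N.Normal → N.index.Coprime 2 → N = ⊤ := by
  intro N hN hidx
  have h1 := h (N.comap e.toMonoidHom) (hN.comap _)
    (by rwa [index_comap_of_surjective N e.surjective])
  rw [← map_comap_eq_self_of_surjective (f := e.toMonoidHom) e.surjective N, h1,
    map_top_of_surjective _ e.surjective]

variable {G : Type u} [Group G] [Finite G]

/-- a perfect subgroup of the generalized Fitting subgroup lies in the layer -/
theorem perfect_le_layer_of_le {M : Subgroup G} (hM : ⁅M, M⁆ = M)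
    (hle : M ≤ generalizedFittingSubgroup G) : M ≤ layer G := by
  set π := QuotientGroup.mk' (layer G)
  have himg : M.map π ≤ (fittingSubgroup G).map π := by
    refine (map_mono hle).trans ?_
    rw [generalizedFittingSubgroup, Subgroup.map_sup]
    refine sup_le ?_ le_rfl
    rw [QuotientGroup.map_mk'_self]
    exact bot_le
  have hsol : Group.IsSolvable ((fittingSubgroup G).map π) := by
    haveI := isSolvable_fitting (G := G)
    exact Group.isSolvable_of_surjective (π.subgroupMap_surjective (fittingSubgroup G))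
  let θ : M →* (fittingSubgroup G).map π :=
    (π.comp M.subtype).codRestrict _ fun x => himg (mem_map_of_mem π x.2)
  intro x hx
  exact (QuotientGroup.eq_one_iff x).mp
    (congrArg Subtype.val (map_eq_one_of_perfect_solvable hM hsol θ ⟨x, hx⟩))

/-- the case `O(G) = 1` -/
theorem pcomp_le_genFitting (hO : pPrimeCore 2 G = ⊥) (T : Subgroup G) :
    IsPGroup 2 T → ∀ K : Subgroup (centralizer (T : Set G)), IsPComponent 2 K →
      K.map (centralizer (T : Set G)).subtype ≤ generalizedFittingSubgroup G := by
  induction T using WellFoundedGT.induction with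
  | _ T ih =>
  intro hT
  haveI : Fact (Nat.Prime 2) := ⟨Nat.prime_two⟩
  set C := centralizer (T : Set G) with hC
  set F := generalizedFittingSubgroup G with hF
  intro K hK
  set K' := K.map C.subtype with hK'
  have hK'C : K' ≤ C := map_subtype_le _
  have hK'perf : ⁅K', K'⁆ = K' := by rw [hK', ← map_commutator, pcomp_perfect hK]
  obtain ⟨P, hTP⟩ := hT.exists_le_sylow
  set S := (P : Subgroup G) ⊓ F with hS
  have hSp : IsPGroup 2 S := P.2.to_le inf_le_left
  have hSi : ¬ 2 ∣ S.relIndex F := fun h =>
    P.not_dvd_index (h.trans (Cfsg.Lib.LocalIndex.relIndex_dvd_index (P : Subgroup G) F))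
  by_cases hST : S ≤ T
  · have hKS : K' ≤ centralizer (S : Set G) :=
      hK'C.trans (centralizer_le (SetLike.coe_subset_coe.mpr hST))
    have hlayer : ∀ L : Subgroup G, IsComponent L → ⁅L, K'⁆ = ⊥ := by
      intro L hL
      have hFL : F ≤ normalizer (L : Set G) := by
        refine sup_le (comp_normal_in_layer hL) (le_trans ?_ (centralizer_le_normalizer _))
        refine le_trans ?_ (centralizer_le (SetLike.coe_subset_coe.mpr (comp_le_layer hL)))
        rw [← commutator_eq_bot_iff_le_centralizer, commutator_comm]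
        exact layer_commute_fitting
      have hLF : L ≤ F := (comp_le_layer hL).trans layer_le_genFitting
      set SL := S ⊓ L with hSL
      have hSLi : ¬ 2 ∣ SL.relIndex L := inf_relIndex_odd hLF hFL inf_le_right hSi
      have hSLnc : ¬ SL.subgroupOf L ≤ center L := fun h => hSLi
        ((qs_dvd_index_center hL.2 (comp_center_isPGroup hO hL) (comp_dvd_card hO hL)).trans
          (index_dvd_of_le h))
      have hKL : K' ≤ normalizer (L : Set G) := by
        intro k hk
        by_contra hkn
        have hne : L ≠ L.map (MulAut.conj k).toMonoidHom := fun h => hkn (by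
          rw [← Cfsg.Lib.Coprime.conjMap_eq_self_iff]; exact h.symm)
        have hcomm := commutator_eq_bot_iff_le_centralizer.mp (comp_commute hL (comp_conj hL k) hne)
        refine hSLnc fun s hs => mem_center_iff.mpr fun l => Subtype.ext ?_
        have hs' : (s : G) ∈ SL := mem_subgroupOf.mp hs
        have h1 : (s : G) ∈ L.map (MulAut.conj k).toMonoidHom := by
          refine ⟨s, hs'.2, ?_⟩
          show k * (s : G) * k⁻¹ = s
          rw [← mem_centralizer_iff.mp (hKS hk) _ hs'.1, mul_inv_cancel_right]
        exact (mem_centralizer_iff.mp (hcomm l.2) _ h1).symm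
      set N := normalizer (L : Set G) with hN
      haveI : (L.subgroupOf N).Normal := normal_in_normalizer
      have hLN : L ≤ N := le_normalizer
      have h := centralizes_of_sylow (L := L.subgroupOf N) (T := SL.subgroupOf N) (Y := K'.subgroupOf N)
        ?_ (comap_mono inf_le_right) (hSp.to_le inf_le_left).comap_subtype ?_ ?_ ?_ ?_
      · have h1 := congrArg (Subgroup.map N.subtype) h
        rwa [map_commutator, Subgroup.map_bot, subgroupOf_map_subtype, subgroupOf_map_subtype,
          inf_eq_left.mpr hLN, inf_eq_left.mpr hKL] at h1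
      · intro Z hZL hLZ hZ
        have hsn : (Z.map N.subtype).IsSubnormal := by
          refine isSubnormal_of_normal_in hL.1 ?_ ?_
          · refine (map_mono hZL).trans ?_
            rw [subgroupOf_map_subtype]
            exact inf_le_left
          · intro g hg
            refine Cfsg.Lib.ZStarApps.mem_normalizer_of_maps ?_
            rintro _ ⟨z, hz, rfl⟩
            exact ⟨⟨g, hLN hg⟩ * z * ⟨g, hLN hg⟩⁻¹,
              (mem_normalizer_iff.mp (hLZ (mem_subgroupOf.mpr hg : (⟨g, hLN hg⟩ : N) ∈ L.subgroupOf N)) z).mp hz,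
              rfl⟩
        have h1 := le_pPrimeCore_of_subnormal hsn (p := 2) (by rwa [card_map_of_injective N.subtype_injective])
        rw [hO, le_bot_iff, map_eq_bot_iff_of_injective _ N.subtype_injective] at h1
        exact h1
      · rwa [← relIndex_map_map_of_injective _ _ N.subtype_injective, subgroupOf_map_subtype,
          subgroupOf_map_subtype, inf_eq_left.mpr hLN, inf_eq_left.mpr (inf_le_right.trans hLN : SL ≤ N)]
      · apply map_injective N.subtype_injective
        rw [map_commutator, subgroupOf_map_subtype, inf_eq_left.mpr hKL, hK'perf]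
      · exact odd_index_transfer
          ((K.equivMapOfInjective C.subtype C.subtype_injective).trans (subgroupOfEquivOfLe hKL).symm)
          fun M hM hidx => by haveI := hM; exact pcomp_eq_top_of_coprime_index hK M hidx
      · intro x hx
        refine mem_centralizer_iff.mpr fun s hs => Subtype.ext ?_
        exact mem_centralizer_iff.mp (hKS (mem_subgroupOf.mp hx)) _ (mem_subgroupOf.mp hs).1
    have hfit : fittingSubgroup G ≤ S := by
      refine le_inf ?_ (fitting_le_genFitting)
      rw [Cfsg.Lib.Components.fitting_eq_pCore hO]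
      exact Cfsg.Lib.Coprime.pCore_le_sylow 2 P
    refine le_trans ?_ centralizer_genFitting_le
    rw [le_centralizer_iff]
    refine sup_le (sSup_le fun L hL => commutator_eq_bot_iff_le_centralizer.mp (hlayer L hL)) ?_
    exact hfit.trans (le_centralizer_iff.mp hKS)
  -- `T` does not contain the Sylow subgroup
  haveI hFn : F.Normal := inferInstance
  have hPS : (P : Subgroup G) ≤ normalizer (S : Set G) := fun g hg =>
    inf_normalizer_le_normalizer_inf ⟨le_normalizer hg, le_normalizer_of_normal (K := (P : Subgroup G)) hg⟩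
  set W₂ := T ⊔ S with hW₂
  have hW₂P : W₂ ≤ (P : Subgroup G) := sup_le hTP inf_le_left
  haveI : Group.IsNilpotent W₂ := (P.2.to_le hW₂P).isNilpotent
  have hlt : T.subgroupOf W₂ < ⊤ := lt_top_iff_ne_top.mpr fun h =>
    hST (le_sup_right.trans (subgroupOf_eq_top.mp h))
  obtain ⟨w, hw, hwT⟩ := SetLike.exists_of_lt
    ((Group.normalizerCondition_of_isNilpotent (G := W₂)) _ hlt)
  have hwN : (w : G) ∈ normalizer (T : Set G) := by
    refine Cfsg.Lib.ZStarApps.mem_normalizer_of_maps fun t ht => ?_
    exact mem_subgroupOf.mp ((mem_normalizer_iff.mp hw ⟨t, (le_sup_left : T ≤ W₂) ht⟩).mp (mem_subgroupOf.mpr ht))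
  obtain ⟨s, hs, t, ht, hst⟩ := (Cfsg.Lib.Coprime.mem_sup_of_le_normalizer (hTP.trans hPS)).mp
    (show (w : G) ∈ S ⊔ T from sup_comm T S ▸ w.2)
  have hsN : s ∈ normalizer (T : Set G) := by
    rw [show s = (w : G) * t⁻¹ by rw [← hst, mul_inv_cancel_right]]
    exact mul_mem hwN (inv_mem (le_normalizer ht))
  have hsT : s ∉ T := fun h => hwT (mem_subgroupOf.mpr (hst ▸ mul_mem h ht))
  set T₁ := T ⊔ zpowers s with hT₁
  have hTT₁ : T < T₁ := lt_of_le_of_ne le_sup_left fun h => hsT (h ▸ mem_sup_right (mem_zpowers s))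
  have hT₁p : IsPGroup 2 T₁ := P.2.to_le (sup_le hTP (zpowers_le.mpr hs.1))
  -- the core of `C`
  set O := pPrimeCore 2 C with hOdef
  set W := O.map C.subtype with hW
  set N := normalizer (T : Set G) with hN
  have hNC : N ≤ normalizer (C : Set G) := normalizer_le_normalizer_centralizer' T
  have hNW : N ≤ normalizer (W : Set G) :=
    hNC.trans (Cfsg.Lib.GenFittingAction.le_normalizer_map_char C O)
  have hWC : W ≤ C := map_subtype_le _
  have hCN : C ≤ N := centralizer_le_normalizer _
  set R₀ := F.subgroupOf C with hR₀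
  haveI : R₀.Normal := inferInstance
  rcases pcomp_le_or_commute hK (Subgroup.Normal.isSubnormal (inferInstance : R₀.Normal)) with h | h
  · exact map_le_iff_le_comap.mpr h
  exfalso
  -- `K` centralizes `s` modulo `W`
  have hKs : ∀ k ∈ K', ∀ a ∈ zpowers s, ⁅a, k⁆ ∈ W := by
    set W' := W.subgroupOf N with hW'
    haveI : W'.Normal := normal_subgroupOf_of_le_normalizer hNW
    set π := QuotientGroup.mk' W'
    set R₁ := (F.subgroupOf N) with hR₁
    set K'' := K'.subgroupOf N with hK''
    have hmapK : K''.map N.subtype = K' := by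
      rw [hK'', subgroupOf_map_subtype, inf_eq_left.mpr (hK'C.trans hCN)]
    have h1 : ⁅⁅K'', R₁⁆, K''⁆ ≤ W' := by
      rw [hW', ← map_le_map_iff_of_injective N.subtype_injective]
      rw [map_commutator, map_commutator, hmapK, hR₁, subgroupOf_map_subtype, subgroupOf_map_subtype]
      refine le_inf ?_ ?_
      · have h2 : ⁅K', F ⊓ N⁆ ≤ C ⊓ F := by
          refine le_inf ?_ ((commutator_mono le_rfl inf_le_left).trans (commutator_le_right K' F))
          exact (commutator_mono hK'C inf_le_right).trans (le_normalizer_iff_commutator_le_left.mp hNC)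
        have h3 : C ⊓ F = R₀.map C.subtype := by rw [hR₀, subgroupOf_map_subtype, inf_comm]
        refine (commutator_mono h2 le_rfl).trans ?_
        rw [h3, hK', ← map_commutator, hW, commutator_comm]
        exact map_mono h
      · exact ((commutator_mono (commutator_mono (hK'C.trans hCN) inf_le_right) (hK'C.trans hCN)).trans
          ((commutator_mono (commutator_le_self N) le_rfl).trans (commutator_le_self N)))
    have hperf : ⁅K''.map π, K''.map π⁆ = K''.map π := by
      rw [← map_commutator]
      congr 1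
      apply map_injective N.subtype_injective
      rw [map_commutator, hmapK, hK'perf]
    have h2 : ⁅K''.map π, R₁.map π⁆ = ⊥ := by
      refine commutator_eq_bot_of_perfect hperf ?_
      rw [← map_commutator, ← map_commutator, Subgroup.map_eq_bot_iff, QuotientGroup.ker_mk']
      exact h1
    intro k hk a ha
    have haN : a ∈ N := zpowers_le.mpr hsN ha
    have haF : a ∈ F := zpowers_le.mpr hs.2 ha
    have h3 : (⁅(⟨a, haN⟩ : N), (⟨k, hCN (hK'C hk)⟩ : N)⁆) ∈ W' := by
      refine (QuotientGroup.eq_one_iff _).mp ?_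
      show π _ = 1
      rw [map_commutatorElement, commutatorElement_eq_one_iff_mul_comm]
      refine mem_centralizer_iff.mp (commutator_eq_bot_iff_le_centralizer.mp h2
        (mem_map_of_mem π (mem_subgroupOf.mpr hk))) _ (mem_map_of_mem π (mem_subgroupOf.mpr haF))
    exact mem_subgroupOf.mp h3
  -- a component in `C(T₁)`
  set C₁ := centralizer (T₁ : Set G) with hC₁
  have hC₁C : C₁ ≤ C := centralizer_le (SetLike.coe_subset_coe.mpr le_sup_left)
  set ι := Subgroup.inclusion hC₁C
  set q := QuotientGroup.mk' O
  set φ := q.comp ι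
  set Z := ((K.map q).comap q).comap ι with hZ
  have hZs : Z.IsSubnormal := ((hK.2.1.1.comap q).comap ι)
  have hZim : Z.map φ = K.map q := by
    refine le_antisymm ?_ ?_
    · rintro _ ⟨z, hz, rfl⟩
      exact hz
    · rintro _ ⟨k, hk, rfl⟩
      have hkK' : (k : G) ∈ K' := mem_map_of_mem _ hk
      have hcop : (Nat.card (zpowers s)).Coprime (Nat.card W) := by
        obtain ⟨i, hi⟩ := IsPGroup.iff_card.mp (P.2.to_le (zpowers_le.mpr hs.1))
        rw [hi, hW, card_map_of_injective C.subtype_injective]
        exact ((coprime_card_pPrimeCore (G := C) 2).pow_right i).symm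
      obtain ⟨n, hn, hfix⟩ := Cfsg.Lib.Coprime.exists_fixed_of_commutator_mem (A := zpowers s) (N := W)
        ((zpowers_le.mpr hsN).trans hNW) hcop (Or.inl inferInstance)
        (k := (k : G)) (hNW (hCN k.2)) fun a ha => by
          have := hKs (k : G) hkK' a ha
          rwa [commutatorElement_def] at this
      have hknC : (k : G) * n ∈ C := mul_mem k.2 (hWC hn)
      have hkn : (k : G) * n ∈ C₁ := by
        rw [hC₁, ← zpowers_le, le_centralizer_iff, hT₁]
        refine sup_le ?_ ?_
        · rw [le_centralizer_iff, zpowers_le]; exact hknC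
        · rw [le_centralizer_iff, zpowers_le]; exact hfix
      refine ⟨⟨_, hkn⟩, ?_, ?_⟩
      · show q ⟨(k : G) * n, hknC⟩ ∈ K.map q
        obtain ⟨n', hn', rfl⟩ := hn
        rw [show (⟨(k : G) * C.subtype n', hknC⟩ : C) = k * n' from rfl, map_mul,
          show q n' = 1 from (QuotientGroup.eq_one_iff n').mpr hn', mul_one]
        exact mem_map_of_mem _ hk
      · show q ⟨(k : G) * n, hknC⟩ = q k
        obtain ⟨n', hn', rfl⟩ := hn
        rw [show (⟨(k : G) * C.subtype n', hknC⟩ : C) = k * n' from rfl, map_mul,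
          show q n' = 1 from (QuotientGroup.eq_one_iff n').mpr hn', mul_one]
  obtain ⟨D, ⟨hDs, hDZ, hDim⟩, hDmin⟩ := WellFounded.has_min (wellFounded_lt (α := Subgroup C₁))
    {H | H.IsSubnormal ∧ H ≤ Z ∧ H.map φ = K.map q} ⟨Z, hZs, le_rfl, hZim⟩
  set O₁ := pPrimeCore 2 C₁ with hO₁
  set q₁ := QuotientGroup.mk' O₁
  have hφO : ∀ x : C₁, φ x = 1 → x ∈ O₁ := by
    intro x hx
    refine le_pPrimeCore (N := φ.ker) ?_ hx
    refine Nat.Coprime.coprime_dvd_left ?_ (coprime_card_pPrimeCore (G := C) 2)
    rw [show φ.ker = O.comap ι by rw [← MonoidHom.comap_ker, QuotientGroup.ker_mk'],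
      ← card_map_of_injective (Subgroup.inclusion_injective hC₁C) (K := O.comap ι)]
    exact card_dvd_of_le (map_comap_le ι O)
  have hOφ : ∀ x ∈ D, x ∈ O₁ → φ x = 1 := by
    intro x hxD hxO
    set X := ((D ⊓ O₁).map φ).subgroupOf (K.map q)
    have hXle : (D ⊓ O₁).map φ ≤ K.map q := (map_mono inf_le_left).trans hDim.le
    have hXn : K.map q ≤ normalizer (((D ⊓ O₁).map φ : Subgroup _) : Set (↥C ⧸ O)) := by
      rw [← hDim]
      refine le_trans (map_mono (fun d hd => ?_)) (le_normalizer_map φ)
      exact inf_normalizer_le_normalizer_inf ⟨le_normalizer hd, le_normalizer_of_normal (K := D) hd⟩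
    haveI : X.Normal := normal_subgroupOf_of_le_normalizer hXn
    have hodd : (Nat.card X).Coprime 2 := by
      rw [Nat.card_congr (subgroupOfEquivOfLe hXle).toEquiv]
      exact (coprime_card_pPrimeCore (G := C₁) 2).coprime_dvd_left
        ((card_map_dvd _ _).trans (card_dvd_of_le inf_le_right))
    have hcz := comp_center_isPGroup (pPrimeCore_quotient_eq_bot (G := C) (p := 2)) hK.2.1
    rcases qs_subnormal_eq_top_or_le_center hK.2.1.2 (inferInstance : X.Normal).isSubnormal with h' | h'
    · exfalso
      rw [h', card_top] at hodd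
      exact absurd (Nat.dvd_gcd (comp_dvd_card (pPrimeCore_quotient_eq_bot (G := C) (p := 2)) hK.2.1) dvd_rfl)
        (by rw [hodd]; norm_num)
    · have h2 := eq_one_of_pgroup_coprime (hcz.to_le h') hodd
        (x := ⟨φ x, hXle (mem_map_of_mem φ ⟨hxD, hxO⟩)⟩)
        (mem_subgroupOf.mpr (mem_map_of_mem φ ⟨hxD, hxO⟩)) (mem_subgroupOf.mpr (mem_map_of_mem φ ⟨hxD, hxO⟩))
      exact congrArg Subtype.val h2
  have hD : IsPComponent 2 D := by
    refine ⟨hDs, ⟨hDs.map (QuotientGroup.mk'_surjective _), ?_⟩, fun H hH hHD himg => ?_⟩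
    · have hk : (q₁.comp D.subtype).ker = (φ.comp D.subtype).ker := by
        ext ⟨x, hx⟩
        show q₁ x = 1 ↔ φ x = 1
        exact ⟨fun e => hOφ x hx ((QuotientGroup.eq_one_iff x).mp e),
          fun e => (QuotientGroup.eq_one_iff x).mpr (hφO x e)⟩
      let e := (QuotientGroup.quotientKerEquivRange (q₁.comp D.subtype)).symm.trans
        ((QuotientGroup.quotientMulEquivOfEq hk).trans (QuotientGroup.quotientKerEquivRange (φ.comp D.subtype)))
      have e1 : (q₁.comp D.subtype).range = D.map q₁ := by rw [MonoidHom.range_comp, range_subtype]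
      have e2 : (φ.comp D.subtype).range = K.map q := by rw [MonoidHom.range_comp, range_subtype, hDim]
      exact qs_congr' (((MulEquiv.subgroupCongr e1).symm.trans e).trans (MulEquiv.subgroupCongr e2)).symm hK.2.1.2
    · refine eq_of_le_of_not_lt hHD fun hlt' => hDmin H ⟨hH, hHD.trans hDZ, ?_⟩ hlt'
      refine le_antisymm ((map_mono hHD).trans hDim.le) ?_
      rw [← hDim]
      rintro _ ⟨d, hd, rfl⟩
      have h1 : q₁ d ∈ H.map q₁ := himg ▸ mem_map_of_mem q₁ hd
      obtain ⟨h', hh', hhd⟩ := h1
      refine ⟨h', hh', ?_⟩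
      have h3 : φ (h'⁻¹ * d) = 1 := hOφ _ (mul_mem (inv_mem (hHD hh')) hd)
        ((QuotientGroup.eq_one_iff _).mp (show q₁ (h'⁻¹ * d) = 1 by rw [map_mul, map_inv, hhd, inv_mul_cancel]))
      rw [map_mul, map_inv, inv_mul_eq_one] at h3
      exact h3
  have hDF := ih T₁ hTT₁ hT₁p D hD
  have hDR : D.map ι ≤ R₀ := by
    rintro _ ⟨d, hd, rfl⟩
    exact mem_subgroupOf.mpr (hDF (mem_map_of_mem C₁.subtype hd))
  have hKR : K.map q ≤ R₀.map q := by
    rw [← hDim, show D.map φ = (D.map ι).map q from (map_map D q ι).symm]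
    exact map_mono hDR
  apply comp_ne_bot hK.2.1
  have h1 : ⁅K.map q, R₀.map q⁆ = ⊥ := by
    rw [← map_commutator, Subgroup.map_eq_bot_iff, QuotientGroup.ker_mk']
    exact h
  have h2 : ⁅K.map q, K.map q⁆ = ⊥ := le_bot_iff.mp ((commutator_mono le_rfl hKR).trans h1.le)
  rwa [comp_perfect hK.2.1] at h2

/-- L-balance at the prime two -/
theorem pLayer_centralizer_le {X : Type u} [Group X] [Finite X] (T : Subgroup X) (hT : IsPGroup 2 T) :
    (pLayer 2 (centralizer (T : Set X))).map (centralizer (T : Set X)).subtype ≤ pLayer 2 X := by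
  haveI : Fact (Nat.Prime 2) := ⟨Nat.prime_two⟩
  set C := centralizer (T : Set X)
  rw [pLayer, sSup_eq_iSup, Subgroup.map_iSup]
  refine iSup_le fun K => ?_
  rw [Subgroup.map_iSup]
  refine iSup_le fun hK => pcomp_map_le_pLayer hK ?_
  set f := QuotientGroup.mk' (pPrimeCore 2 X) with hf'
  have hf : Function.Surjective f := QuotientGroup.mk'_surjective _
  set T' := T.map f
  set C' := centralizer (T' : Set (X ⧸ pPrimeCore 2 X))
  let g : C →* C' := (f.comp C.subtype).codRestrict C' fun x => by
    refine mem_centralizer_iff.mpr ?_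
    rintro _ ⟨t, ht, rfl⟩
    show f t * f x = f x * f t
    rw [← map_mul, ← map_mul, mem_centralizer_iff.mp x.2 t ht]
  have hg : Function.Surjective g := by
    rintro ⟨y, hy⟩
    obtain ⟨x, rfl⟩ := hf y
    obtain ⟨i, hi⟩ := IsPGroup.iff_card.mp hT
    obtain ⟨n, hn, hfix⟩ := Cfsg.Lib.Coprime.exists_fixed_of_commutator_mem (A := T) (N := pPrimeCore 2 X)
      le_normalizer_of_normal (by rw [hi]; exact ((coprime_card_pPrimeCore (G := X) 2).pow_right i).symm)
      (Or.inl (have := hT.isNilpotent; inferInstance)) (k := x)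
      (le_normalizer_of_normal (K := ⊤) (mem_top x)) fun a ha => by
        refine (QuotientGroup.eq_one_iff _).mp ?_
        show f (a * x * a⁻¹ * x⁻¹) = 1
        simp only [map_mul, map_inv]
        rw [mem_centralizer_iff.mp hy _ (mem_map_of_mem f ha)]
        group
    exact ⟨⟨x * n, hfix⟩, Subtype.ext (show f (x * n) = f x by
      rw [map_mul, show f n = 1 from (QuotientGroup.eq_one_iff n).mpr hn, mul_one])⟩
  have hker : (Nat.card g.ker).Coprime 2 := by
    refine (coprime_card_pPrimeCore (G := X) 2).coprime_dvd_left ?_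
    rw [Nat.card_congr (Subgroup.equivMapOfInjective g.ker C.subtype C.subtype_injective).toEquiv]
    refine card_dvd_of_le ?_
    rintro _ ⟨x, hx, rfl⟩
    exact (QuotientGroup.eq_one_iff _).mp (congrArg Subtype.val (MonoidHom.mem_ker.mp hx))
  obtain ⟨e, he⟩ := exists_quotient_equiv_of_coprime_ker hg hker
  have hee : ∀ H : Subgroup C, (H.map g).map (QuotientGroup.mk' (pPrimeCore 2 C')) =
      (H.map (QuotientGroup.mk' (pPrimeCore 2 C))).map e.toMonoidHom := fun H => by
    rw [map_map, map_map, he]
  have hK' : IsPComponent 2 (K.map g) := by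
    refine ⟨hK.1.map hg, ?_, fun H hH hle himg => ?_⟩
    · rw [hee]
      exact comp_map_equiv hK.2.1 e
    · have hH1 : (H.comap g ⊓ K).map g = H := by
        refine le_antisymm ((map_mono inf_le_left).trans (map_comap_le g H)) fun y hy => ?_
        obtain ⟨k, hk, rfl⟩ := hle hy
        exact ⟨k, ⟨hy, hk⟩, rfl⟩
      have h1 := hK.2.2 (H.comap g ⊓ K) ((hH.comap g).inf hK.1) inf_le_right
        (map_injective (f := e.toMonoidHom) e.injective (by rw [← hee, ← hee, hH1, himg]))
      rw [← hH1, h1]
  have h := pcomp_le_genFitting pPrimeCore_quotient_eq_bot T' (hT.map f) (K.map g) hK'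
  have heq : (K.map g).map C'.subtype = (K.map C.subtype).map f := by
    rw [map_map, map_map]; rfl
  rw [heq] at h
  exact perfect_le_layer_of_le (by rw [← map_commutator, ← map_commutator, pcomp_perfect hK]) h

end Cfsg.Lib.LBalTwo
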