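import Cfsg.Agent.Components.Misc.LocalIndex
import Cfsg.Agent.Components.Supplement
import Cfsg.Agent.Coprime.Basic

/-!
Small facts used for balance at the prime two, and the averaging argument for automorphisms
acting trivially on a Sylow subgroup and modulo an abelian normal subgroup.
-/

set_option linter.style.haveILetI false
set_option linter.unusedSectionVars false

namespace Cfsg.Lib.LBalTwo

open Subgroup Cfsg.Lib.Components
open scoped commutatorElement

universe u

variable {G : Type u} [Group G] [Finite G]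

theorem coprime_two {n : ℕ} (h : ¬ 2 ∣ n) : n.Coprime 2 :=
  (Nat.prime_two.coprime_iff_not_dvd.mpr h).symm

theorem eq_one_of_pgroup_coprime {X Y : Subgroup G} (hX : IsPGroup 2 X) (hY : (Nat.card Y).Coprime 2)
    {x : G} (hxX : x ∈ X) (hxY : x ∈ Y) : x = 1 := by
  haveI : Fact (Nat.Prime 2) := ⟨Nat.prime_two⟩
  obtain ⟨k, hk⟩ := IsPGroup.iff_card.mp hX
  exact Cfsg.Lib.Coprime.eq_one_of_coprime (N := Y) (H := X) (by rw [hk]; exact hY.pow_right k) hxY hxX

theorem commutator_le_inf {X Y : Subgroup G} (hXY : X ≤ normalizer (Y : Set G))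
    (hYX : Y ≤ normalizer (X : Set G)) : ⁅X, Y⁆ ≤ X ⊓ Y := by
  refine le_inf (le_normalizer_iff_commutator_le_left.mp hYX) ?_
  rw [commutator_comm]
  exact le_normalizer_iff_commutator_le_left.mp hXY

/-- a normal `2`-subgroup lies in any subgroup of odd index -/
theorem le_of_normalized {L T X : Subgroup G} (hTL : T ≤ L) (hT : IsPGroup 2 T)
    (hodd : ¬ 2 ∣ T.relIndex L) (hXL : X ≤ L) (hX : IsPGroup 2 X) (hn : L ≤ normalizer (X : Set G)) :
    X ≤ T := by
  haveI : Fact (Nat.Prime 2) := ⟨Nat.prime_two⟩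
  have hS : IsPGroup 2 (T ⊔ X : Subgroup G) := hT.to_sup_of_normal_right' hX (hTL.trans hn)
  obtain ⟨k, hk⟩ := IsPGroup.iff_card.mp hS
  have h1 : T.relIndex (T ⊔ X) ∣ 2 ^ k := hk ▸ relIndex_dvd_card _ _
  have h2 : T.relIndex (T ⊔ X) ∣ T.relIndex L := by
    rw [← relIndex_mul_relIndex T (T ⊔ X) L le_sup_left (sup_le hTL hXL)]
    exact dvd_mul_right _ _
  have h3 := Cfsg.Lib.LocalIndex.dvd_pow_not_dvd h1 fun h => hodd (h.trans h2)
  exact le_sup_right.trans (relIndex_eq_one.mp h3)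

/-- the intersection with a normal subgroup keeps odd index -/
theorem inf_relIndex_odd {L D T : Subgroup G} (hDL : D ≤ L) (hn : L ≤ normalizer (D : Set G))
    (hTL : T ≤ L) (hodd : ¬ 2 ∣ T.relIndex L) : ¬ 2 ∣ (T ⊓ D).relIndex D := by
  intro h
  haveI : (D.subgroupOf L).Normal := normal_subgroupOf_of_le_normalizer hn
  have h1 := Cfsg.Lib.LocalIndex.relIndex_dvd_index (T.subgroupOf L) (D.subgroupOf L)
  rw [← relIndex_map_map_of_injective _ _ L.subtype_injective, Subgroup.map_inf _ _ L.subtype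
    L.subtype_injective, subgroupOf_map_subtype, subgroupOf_map_subtype, inf_eq_left.mpr hDL,
    inf_eq_left.mpr hTL] at h1
  exact hodd (h.trans h1)

/-- an odd subgroup subnormal in a group with trivial odd core -/
theorem odd_eq_bot {L D X : Subgroup G}
    (hO : ∀ Y : Subgroup G, Y ≤ L → L ≤ normalizer (Y : Set G) → (Nat.card Y).Coprime 2 → Y = ⊥)
    (hXD : X ≤ D) (hDL : D ≤ L) (hLD : L ≤ normalizer (D : Set G)) (hDX : D ≤ normalizer (X : Set G))
    (hX : (Nat.card X).Coprime 2) : X = ⊥ := by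
  have hsn : (X.subgroupOf L).IsSubnormal := by
    haveI : (D.subgroupOf L).Normal := normal_subgroupOf_of_le_normalizer hLD
    refine isSubnormal_of_normal_in (M := D.subgroupOf L) ‹(D.subgroupOf L).Normal›.isSubnormal
      (comap_mono hXD) fun g hg => ?_
    rw [mem_normalizer_iff]
    intro y
    rw [mem_subgroupOf, mem_subgroupOf]
    exact mem_normalizer_iff.mp (hDX (mem_subgroupOf.mp hg)) (y : G)
  have hle : X.subgroupOf L ≤ pPrimeCore 2 L := le_pPrimeCore_of_subnormal hsn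
    (by rwa [Nat.card_congr (subgroupOfEquivOfLe (hXD.trans hDL)).toEquiv])
  have hbot : (pPrimeCore 2 L).map L.subtype = ⊥ := by
    refine hO _ (map_subtype_le _) (fun g hg => ?_) ?_
    · rw [mem_normalizer_iff]
      refine fun x => ⟨?_, fun hx => ?_⟩
      · rintro ⟨y, hy, rfl⟩
        exact ⟨⟨g, hg⟩ * y * ⟨g, hg⟩⁻¹, (inferInstance : (pPrimeCore 2 L).Normal).conj_mem y hy _, rfl⟩
      · obtain ⟨y, hy, hxy⟩ := hx
        refine ⟨⟨g, hg⟩⁻¹ * y * ⟨g, hg⟩, ?_, ?_⟩
        · simpa using (inferInstance : (pPrimeCore 2 L).Normal).conj_mem y hy ⟨g, hg⟩⁻¹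
        · show g⁻¹ * (y : G) * g = x
          rw [show (y : G) = g * x * g⁻¹ from hxy]
          group
    · rw [card_map_of_injective L.subtype_injective]
      exact coprime_card_pPrimeCore 2
  rw [map_eq_bot_iff_of_injective _ L.subtype_injective] at hbot
  rw [hbot, le_bot_iff, subgroupOf_eq_bot, disjoint_iff, inf_eq_left.mpr (hXD.trans hDL)] at hle
  exact hle

/-- an abelian normalized subgroup of a group with trivial odd core is a `2`-group -/
theorem isPGroup_of_abelian {L A : Subgroup G}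
    (hO : ∀ Y : Subgroup G, Y ≤ L → L ≤ normalizer (Y : Set G) → (Nat.card Y).Coprime 2 → Y = ⊥)
    (hAL : A ≤ L) (hLA : L ≤ normalizer (A : Set G)) (hc : ∀ a ∈ A, ∀ b ∈ A, a * b = b * a) :
    IsPGroup 2 A := by
  rintro ⟨a, ha⟩
  obtain ⟨e, m, hm, hem⟩ := Nat.exists_eq_pow_mul_and_not_dvd (n := orderOf a) (orderOf_pos a).ne' 2
    (by norm_num)
  refine ⟨e, Subtype.ext ?_⟩
  show a ^ 2 ^ e = 1
  have h := odd_eq_bot (X := zpowers (a ^ 2 ^ e)) hO (zpowers_le.mpr (pow_mem ha _)) hAL hLA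
    (fun g hg => by
      rw [mem_normalizer_iff]
      intro y
      constructor
      · intro hy
        rw [hc g hg y (zpowers_le.mpr (pow_mem ha _) hy), mul_inv_cancel_right]
        exact hy
      · intro hy
        have h1 : g * y * g⁻¹ ∈ A := zpowers_le.mpr (pow_mem ha _) hy
        have h2 : y ∈ A := by
          have h3 := mul_mem (mul_mem (inv_mem hg) h1) hg
          rwa [show g⁻¹ * (g * y * g⁻¹) * g = y by group] at h3
        rwa [hc g hg y h2, mul_inv_cancel_right] at hy)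
    (by
      rw [Nat.card_zpowers]
      refine Nat.Coprime.coprime_dvd_left (orderOf_dvd_of_pow_eq_one ?_) (coprime_two hm)
      rw [← pow_mul, ← hem, pow_orderOf_eq_one])
  exact zpowers_eq_bot.mp h

/-- averaging over the cosets of a Sylow subgroup -/
theorem commutator_eq_bot_of_abelian {L A S U : Subgroup G} {c : G} [hLn : L.Normal] [hAn : A.Normal]
    (hAc : ∀ a ∈ A, ∀ b ∈ A, a * b = b * a) (hA : IsPGroup 2 A) (hAS : A ≤ S) (_hSL : S ≤ L)
    (hodd : ¬ 2 ∣ S.relIndex L) (hUS : U ≤ centralizer (S : Set G)) (hcS : c ∈ centralizer (S : Set G))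
    (hcU : ⁅U, zpowers c⁆ = U) (hLU : ⁅L, U⁆ ≤ A) : ⁅L, U⁆ = ⊥ := by
  classical
  letI : CommGroup A := { mul_comm := fun a b => Subtype.ext (hAc a a.2 b b.2) }
  let V : Subgroup G :=
    { carrier := {v | v ∈ centralizer (S : Set G) ∧ ∀ g ∈ L, ⁅v, g⁆ ∈ A}
      one_mem' := ⟨one_mem _, fun g _ => by rw [commutatorElement_one_left]; exact one_mem _⟩
      mul_mem' := fun {v w} hv hw => ⟨mul_mem hv.1 hw.1, fun g hg => by
        rw [show ⁅v * w, g⁆ = v * ⁅w, g⁆ * v⁻¹ * ⁅v, g⁆ by simp only [commutatorElement_def]; group]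
        exact mul_mem (hAn.conj_mem _ (hw.2 g hg) v) (hv.2 g hg)⟩
      inv_mem' := fun {v} hv => ⟨inv_mem hv.1, fun g hg => by
        rw [show ⁅v⁻¹, g⁆ = v⁻¹ * ⁅v, g⁆⁻¹ * v by simp only [commutatorElement_def]; group]
        simpa using hAn.conj_mem _ (inv_mem (hv.2 g hg)) v⁻¹⟩ }
  have hUV : U ≤ V := fun v hv => ⟨hUS hv, fun g hg => by
    have h := inv_mem (hLU (commutator_mem_commutator hg hv))
    rwa [commutatorElement_inv] at h⟩
  have hfixA : ∀ v ∈ V, ∀ a ∈ A, v * a * v⁻¹ = a := fun v hv a ha =>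
    mul_inv_eq_iff_eq_mul.mpr (mem_centralizer_iff.mp hv.1 a (hAS ha)).symm
  set S' := S.subgroupOf L
  let f : V → L → A := fun v g => ⟨⁅(v : G), (g : G)⁆, v.2.2 g g.2⟩
  have hfgh : ∀ v g h, ((f v (g * h) : A) : G) = (f v g : A) * ((g : G) * (f v h : A) * (g : G)⁻¹) := by
    intro v g h
    simp only [f, commutatorElement_def, Subgroup.coe_mul]
    group
  have hfS : ∀ v (s : L), s ∈ S' → ((f v s : A) : G) = 1 := fun v s hs =>
    commutatorElement_eq_one_iff_mul_comm.mpr (mem_centralizer_iff.mp v.2.1 s (mem_subgroupOf.mp hs)).symm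
  have hwell : ∀ v (a b : L), QuotientGroup.leftRel S' a b → f v a = f v b := by
    intro v a b hab
    rw [QuotientGroup.leftRel_apply] at hab
    refine Subtype.ext ?_
    conv_rhs => rw [show b = a * (a⁻¹ * b) by group, hfgh, hfS v _ hab, mul_one, mul_inv_cancel, mul_one]
  let F : V → L ⧸ S' → A := fun v q => Quotient.liftOn' q (f v) (hwell v)
  have hFmk : ∀ v g, F v (QuotientGroup.mk g) = f v g := fun _ _ => rfl
  haveI : Fintype (L ⧸ S') := Fintype.ofFinite _
  have hfmul : ∀ v w g, f (v * w) g = f v g * f w g := by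
    intro v w g
    refine Subtype.ext ?_
    show ⁅(v : G) * w, (g : G)⁆ = ⁅(v : G), (g : G)⁆ * ⁅(w : G), (g : G)⁆
    rw [show ⁅(v : G) * w, (g : G)⁆ = v * ⁅(w : G), (g : G)⁆ * (v : G)⁻¹ * ⁅(v : G), (g : G)⁆ by
      simp only [commutatorElement_def]; group, hfixA v v.2 _ (w.2.2 g g.2)]
    exact hAc _ (w.2.2 g g.2) _ (v.2.2 g g.2)
  let ζ : V →* A := MonoidHom.mk' (fun v => ∏ q, F v q) fun v w => by
    rw [← Finset.prod_mul_distrib]
    refine Finset.prod_congr rfl fun q _ => ?_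
    induction q using QuotientGroup.induction_on with
    | H g => rw [hFmk, hFmk, hFmk, hfmul]
  have hinv : ∀ (w : G), w ∈ centralizer (S : Set G) → ∀ (v : V) (hv : w * v * w⁻¹ ∈ V),
      ζ ⟨w * v * w⁻¹, hv⟩ = ζ v := by
    intro w hw v hv
    let σ₀ : ∀ w : G, L → L := fun w g => ⟨w * g * w⁻¹, hLn.conj_mem g g.2 w⟩
    have hσ : ∀ w ∈ centralizer (S : Set G), ∀ a b : L, QuotientGroup.leftRel S' a b →
        QuotientGroup.leftRel S' (σ₀ w a) (σ₀ w b) := by
      intro w hw a b hab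
      rw [QuotientGroup.leftRel_apply, mem_subgroupOf] at hab ⊢
      show (w * (a : G) * w⁻¹)⁻¹ * (w * (b : G) * w⁻¹) ∈ S
      rw [show (w * (a : G) * w⁻¹)⁻¹ * (w * (b : G) * w⁻¹) = w * ((a : G)⁻¹ * b) * w⁻¹ by group,
        ← mem_centralizer_iff.mp hw ((a : G)⁻¹ * b) hab, mul_inv_cancel_right]
      exact hab
    let σ : L ⧸ S' ≃ L ⧸ S' :=
      { toFun := Quotient.map' (σ₀ w) (hσ w hw)
        invFun := Quotient.map' (σ₀ w⁻¹) (hσ w⁻¹ (inv_mem hw))
        left_inv := fun q => by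
          induction q using QuotientGroup.induction_on with
          | H g =>
            show (QuotientGroup.mk (σ₀ w⁻¹ (σ₀ w g)) : L ⧸ S') = QuotientGroup.mk g
            congr 1
            exact Subtype.ext (show w⁻¹ * (w * (g : G) * w⁻¹) * w⁻¹⁻¹ = g by group)
        right_inv := fun q => by
          induction q using QuotientGroup.induction_on with
          | H g =>
            show (QuotientGroup.mk (σ₀ w (σ₀ w⁻¹ g)) : L ⧸ S') = QuotientGroup.mk g
            congr 1
            exact Subtype.ext (show w * (w⁻¹ * (g : G) * w⁻¹⁻¹) * w⁻¹ = g by group) }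
    show ∏ q, F _ q = ∏ q, F v q
    refine (Fintype.prod_equiv σ _ _ fun q => ?_).symm
    induction q using QuotientGroup.induction_on with
    | H g =>
      show f v g = f ⟨w * v * w⁻¹, hv⟩ (σ₀ w g)
      refine Subtype.ext ?_
      show ⁅(v : G), (g : G)⁆ = ⁅w * v * w⁻¹, w * g * w⁻¹⁆
      rw [show ⁅w * v * w⁻¹, w * g * w⁻¹⁆ = w * ⁅(v : G), (g : G)⁆ * w⁻¹ by
        simp only [commutatorElement_def]; group]
      have h := mem_centralizer_iff.mp hw _ (hAS (v.2.2 g g.2))
      rw [← h, mul_inv_cancel_right]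
  have hker : ∀ v (hv : v ∈ U), ζ ⟨v, hUV hv⟩ = 1 := by
    have hle : ⁅U, zpowers c⁆ ≤ (ζ.ker).map V.subtype := by
      rw [commutator_le]
      intro v hv w hw
      have hwS : w ∈ centralizer (S : Set G) := zpowers_le.mpr hcS hw
      have hU' : ⁅v, w⁆ ∈ U := hcU.le (commutator_mem_commutator hv hw)
      have h2 : w * v⁻¹ * w⁻¹ ∈ V := by
        have h3 := mul_mem (inv_mem (hUV hv)) (hUV hU')
        rwa [show v⁻¹ * ⁅v, w⁆ = w * v⁻¹ * w⁻¹ by simp only [commutatorElement_def]; group] at h3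
      refine ⟨⟨v, hUV hv⟩ * ⟨w * (v⁻¹) * w⁻¹, h2⟩, ?_, ?_⟩
      · show ζ _ = 1
        rw [map_mul]
        have := hinv w hwS ⟨v⁻¹, inv_mem (hUV hv)⟩ h2
        rw [this, ← map_mul, show (⟨v, hUV hv⟩ : V) * ⟨v⁻¹, inv_mem (hUV hv)⟩ = 1 from
          Subtype.ext (mul_inv_cancel v), map_one]
      · show v * (w * v⁻¹ * w⁻¹) = _
        simp only [commutatorElement_def]; group
    intro v hv
    obtain ⟨x, hx, hxv⟩ := hle (hcU.ge hv)
    rw [show (⟨v, hUV hv⟩ : V) = x from Subtype.ext hxv.symm]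
    exact hx
  rw [commutator_eq_bot_iff_le_centralizer]
  intro g hg
  refine mem_centralizer_iff.mpr fun v hv => commutatorElement_eq_one_iff_mul_comm.mp ?_
  set w : V := ⟨v, hUV hv⟩
  set g' : L := ⟨g, hg⟩
  have hz : ∏ q, F w q = 1 := hker v hv
  let cj : A →* A :=
    MonoidHom.mk' (fun a => (⟨g * a * g⁻¹, hAn.conj_mem a a.2 g⟩ : A))
      fun a b => Subtype.ext (by show g * ((a : G) * b) * g⁻¹ = _; simp only [Subgroup.coe_mul]; group)
  have hshift : ∀ q, F w (g' • q) = f w g' * cj (F w q) := by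
    intro q
    induction q using QuotientGroup.induction_on with
    | H h =>
      refine Subtype.ext ?_
      show ((f w (g' * h) : A) : G) = _
      rw [hfgh]
      rfl
  have hsum : ∏ q, F w (g' • q) = ∏ q, F w q := Fintype.prod_equiv (MulAction.toPerm g') _ _ fun _ => rfl
  simp only [hshift] at hsum
  rw [Finset.prod_mul_distrib, ← map_prod, hz, map_one, mul_one, Finset.prod_const, Finset.card_univ,
    ← Nat.card_eq_fintype_card] at hsum
  haveI : Fact (Nat.Prime 2) := ⟨Nat.prime_two⟩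
  obtain ⟨k, hk⟩ := hA (f w g')
  have h1 : f w g' = 1 := by
    rw [← orderOf_eq_one_iff]
    refine Nat.eq_one_of_dvd_coprimes ?_ (orderOf_dvd_of_pow_eq_one hsum) (orderOf_dvd_of_pow_eq_one hk)
    exact (coprime_two (show ¬ 2 ∣ Nat.card (L ⧸ S') from hodd)).pow_right k
  exact congrArg Subtype.val h1

end Cfsg.Lib.LBalTwo
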