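import Cfsg.Agent.Components.LBalanceTwo.Basic
import Cfsg.Agent.Components.Misc.GenFittingAction
import Cfsg.Agent.InvolCalc.ZStarApps
import Cfsg.Agent.SolvStruct.AlperinClassical

/-!
A `2`-group which is generated by its commutators with an element, both centralizing a Sylow
`2`-subgroup of a normal subgroup `L`, centralizes `L` modulo `O(L)`.
-/

set_option linter.style.haveILetI false
set_option linter.unusedSectionVars false

namespace Cfsg.Lib.LBalTwo

open Subgroup Cfsg.Lib.Components Cfsg.Lib.SolvStruct.Alperin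
open scoped commutatorElement

universe u

/-- the hypotheses -/
structure Acts {G : Type u} [Group G] (L U : Subgroup G) (c : G) (T : Subgroup G) : Prop where
  pgroup : IsPGroup 2 U
  gen : ⁅U, zpowers c⁆ = U
  le : T ≤ L
  sylP : IsPGroup 2 T
  sylI : ¬ 2 ∣ T.relIndex L
  fixU : U ≤ centralizer (T : Set G)
  fixC : c ∈ centralizer (T : Set G)

/-- the conclusion -/
def Concl {G : Type u} [Group G] (L U : Subgroup G) : Prop :=
  ∃ O : Subgroup G, O ≤ L ∧ (Nat.card O).Coprime 2 ∧ O.Normal ∧ ⁅L, U⁆ ≤ O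

/-- the inductive hypothesis -/
def IH (n : ℕ) : Prop :=
  ∀ m < n, ∀ (G : Type u) [Group G] [Finite G] (L U : Subgroup G) (c : G) (T : Subgroup G),
    L.Normal → Nat.card L = m → Acts L U c T → Concl L U

theorem descend {n : ℕ} (ih : IH.{u} n) {G : Type u} [Group G] [Finite G] {L U : Subgroup G} {c : G}
    {T N : Subgroup G} [hLn : L.Normal] (hU : IsPGroup 2 U) (hgen : ⁅U, zpowers c⁆ = U) (hTL : T ≤ L)
    (hT : IsPGroup 2 T) (hfixU : U ≤ centralizer (T : Set G)) (hfixC : c ∈ centralizer (T : Set G))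
    (hUN : U ≤ N) (hcN : c ∈ N) (hTi : ¬ 2 ∣ (T ⊓ N).relIndex (L ⊓ N))
    (hlt : Nat.card (L ⊓ N : Subgroup G) < n) :
    ∃ O : Subgroup G, O ≤ L ⊓ N ∧ (Nat.card O).Coprime 2 ∧ N ≤ normalizer (O : Set G) ∧ ⁅L ⊓ N, U⁆ ≤ O := by
  have hLN : (L ⊓ N).subgroupOf N = L.subgroupOf N := inf_subgroupOf_right L N
  haveI : (L.subgroupOf N).Normal := inferInstance
  have hact : Acts ((L ⊓ N).subgroupOf N) (U.subgroupOf N) ⟨c, hcN⟩ ((T ⊓ N).subgroupOf N) := by
    refine ⟨hU.comap_subtype, ?_, comap_mono (inf_le_inf_right N hTL),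
      (hT.to_le inf_le_left).comap_subtype, ?_, ?_, ?_⟩
    · apply map_injective N.subtype_injective
      rw [map_commutator, subgroupOf_map_subtype, inf_eq_left.mpr hUN, MonoidHom.map_zpowers]
      exact hgen
    · rwa [← relIndex_map_map_of_injective _ _ N.subtype_injective, subgroupOf_map_subtype,
        subgroupOf_map_subtype, inf_assoc, inf_idem, inf_assoc, inf_idem]
    · intro u hu
      refine mem_centralizer_iff.mpr fun t ht => Subtype.ext ?_
      exact mem_centralizer_iff.mp (hfixU hu) t (mem_subgroupOf.mp ht).1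
    · refine mem_centralizer_iff.mpr fun t ht => Subtype.ext ?_
      exact mem_centralizer_iff.mp hfixC t (mem_subgroupOf.mp ht).1
  obtain ⟨O, hOL, hOc, hOn, hOcomm⟩ := ih _ hlt N ((L ⊓ N).subgroupOf N) (U.subgroupOf N) ⟨c, hcN⟩
    ((T ⊓ N).subgroupOf N) (hLN ▸ inferInstance)
    (Nat.card_congr (subgroupOfEquivOfLe inf_le_right).toEquiv) hact
  refine ⟨O.map N.subtype, ?_, ?_, fun g hg => ?_, ?_⟩
  · refine (map_mono hOL).trans ?_
    rw [subgroupOf_map_subtype, inf_assoc, inf_idem]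
  · rwa [card_map_of_injective N.subtype_injective]
  · refine Cfsg.Lib.ZStarApps.mem_normalizer_of_maps ?_
    rintro _ ⟨o, ho, rfl⟩
    exact ⟨⟨g, hg⟩ * o * ⟨g, hg⟩⁻¹, hOn.conj_mem o ho _, rfl⟩
  · have h := map_mono (f := N.subtype) hOcomm
    rwa [map_commutator, subgroupOf_map_subtype, subgroupOf_map_subtype, inf_assoc, inf_idem,
      inf_eq_left.mpr hUN] at h

/-- a strictly smaller subgroup -/
theorem card_inf_lt {G : Type u} [Group G] [Finite G] {L N : Subgroup G} (h : ¬ L ≤ N) :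
    Nat.card (L ⊓ N : Subgroup G) < Nat.card L :=
  lt_of_le_of_ne (card_le_of_le inf_le_left) fun he =>
    h (inf_eq_left.mp (eq_of_le_of_card_ge inf_le_left he.ge))

section Fusion

variable {G : Type u} [Group G] [Finite G] {L U : Subgroup G} {c : G} {T : Subgroup G} [hLn : L.Normal]

/-- fusion in `L` of subsets of `T` is induced by elements centralizing an element of `U` -/
theorem fusion (ih : IH.{u} (Nat.card L)) (ha : Acts L U c T)
    (hW : ∀ Y : Subgroup G, Y ≤ L → L ≤ normalizer (Y : Set G) → IsPGroup 2 Y → Y = ⊥)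
    {u : G} (hu : u ∈ U) (A : Set G) (hA : A ⊆ T) {g : G} (hg : g ∈ L)
    (hAg : ∀ a ∈ A, g⁻¹ * a * g ∈ T) :
    ∃ m ∈ L ⊓ centralizer ({u} : Set G), ∀ a ∈ A, m⁻¹ * a * m = g⁻¹ * a * g := by
  haveI : Fact (Nat.Prime 2) := ⟨Nat.prime_two⟩
  set P : Sylow 2 L := (ha.sylP.comap_subtype (K := L)).toSylow ha.sylI with hP
  have hPT : ∀ y : L, y ∈ (P : Subgroup L) ↔ (y : G) ∈ T := fun y => Iff.rfl
  have hchain : Chain P {y : L | (y : G) ∈ A} (⟨g, hg⟩ : L) := by
    refine exists_chain P _ _ (fun y hy => (hPT y).mpr (hA hy)) ?_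
    rintro _ ⟨y, hy, rfl⟩
    exact (hPT _).mpr (hAg y hy)
  suffices hall : ∀ (B : Set L) (k : L), Chain P B k →
      ∃ m ∈ L ⊓ centralizer ({u} : Set G), ∀ b ∈ B, m⁻¹ * (b : G) * m = (k : G)⁻¹ * b * k by
    obtain ⟨m, hm, hm2⟩ := hall _ _ hchain
    exact ⟨m, hm, fun a ha' => hm2 ⟨a, ha.le (hA ha')⟩ ha'⟩
  intro B k hk
  induction hk with
  | one B _ => exact ⟨1, one_mem _, fun b _ => by simp⟩
  | cons B Q x g' hB hQ hx _ hrec =>
    obtain ⟨m', hm', hm2'⟩ := hrec
    suffices hstep : ∃ m ∈ L ⊓ centralizer ({u} : Set G), ∀ b ∈ B, m⁻¹ * (b : G) * m = (x : G)⁻¹ * b * x by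
      obtain ⟨m, hm, hm2⟩ := hstep
      refine ⟨m * m', mul_mem hm hm', fun b hb => ?_⟩
      have h1 := hm2' (x⁻¹ * b * x) ⟨b, hb, rfl⟩
      simp only [Subgroup.coe_mul, Subgroup.coe_inv] at h1 ⊢
      rw [show (m * m')⁻¹ * (b : G) * (m * m') = m'⁻¹ * (m⁻¹ * b * m) * m' by group, hm2 b hb, h1]
      group
    set R₀ := (P : Subgroup L) ⊓ (Q : Subgroup L) with hR₀
    set R := R₀.map L.subtype with hR
    have hBR : ∀ b ∈ B, (b : G) ∈ R := fun b hb => mem_map_of_mem _ (hB hb)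
    by_cases hRb : R = ⊥
    · refine ⟨1, one_mem _, fun b hb => ?_⟩
      have hb1 : (b : G) = 1 := mem_bot.mp (hRb ▸ hBR b hb)
      simp [hb1]
    have hRT : R ≤ T := by
      rintro _ ⟨y, hy, rfl⟩
      exact (hPT y).mp hy.1
    have hRp : IsPGroup 2 R := ha.sylP.to_le hRT
    set N := normalizer (R : Set G) with hN
    have hNI : (NI P Q).map L.subtype = L ⊓ N := by
      ext y
      constructor
      · rintro ⟨y', hy', rfl⟩
        refine ⟨y'.2, mem_normalizer_iff.mpr fun z => ⟨?_, fun hz => ?_⟩⟩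
        · rintro ⟨z', hz', rfl⟩
          exact ⟨y' * z' * y'⁻¹, (mem_normalizer_iff.mp hy' z').mp hz', rfl⟩
        · obtain ⟨z', hz', hzz⟩ := hz
          refine ⟨y'⁻¹ * z' * y', (mem_normalizer_iff.mp hy' _).mpr (by
            rwa [show y' * (y'⁻¹ * z' * y') * y'⁻¹ = z' by group]), ?_⟩
          show (y' : G)⁻¹ * (z' : G) * y' = z
          rw [show (z' : G) = y' * z * (y' : G)⁻¹ from hzz]
          group
      · rintro ⟨hyL, hyN⟩
        refine ⟨⟨y, hyL⟩, mem_normalizer_iff.mpr fun z => ?_, rfl⟩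
        have h := mem_normalizer_iff.mp hyN (z : G)
        constructor
        · intro hz
          obtain ⟨w, hw, hwe⟩ := h.mp (mem_map_of_mem _ hz)
          rwa [show (⟨y, hyL⟩ : L) * z * ⟨y, hyL⟩⁻¹ = w from Subtype.ext hwe.symm]
        · intro hz
          obtain ⟨w, hw, hwe⟩ := h.mpr (mem_map_of_mem (L.subtype) hz)
          rwa [show z = w from Subtype.ext hwe.symm]
    have hTN : ((P : Subgroup L) ⊓ NI P Q).map L.subtype = T ⊓ N := by
      rw [Subgroup.map_inf _ _ L.subtype L.subtype_injective, hNI,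
        show (P : Subgroup L) = T.subgroupOf L from rfl, subgroupOf_map_subtype, inf_eq_left.mpr ha.le,
        ← inf_assoc, inf_eq_left.mpr ha.le]
    have hTi : ¬ 2 ∣ (T ⊓ N).relIndex (L ⊓ N) := by
      rw [← hTN, ← hNI, relIndex_map_map_of_injective _ _ L.subtype_injective]
      exact hQ.1
    have hcent : centralizer (T : Set G) ≤ N :=
      (centralizer_le (SetLike.coe_subset_coe.mpr hRT)).trans (centralizer_le_normalizer _)
    have hlt := card_inf_lt (L := L) (N := N) fun hle => hRb (hW R (map_subtype_le _) hle hRp)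
    obtain ⟨O, hOLN, hOc, hNO, hOU⟩ := descend ih ha.pgroup ha.gen ha.le ha.sylP ha.fixU ha.fixC
      (ha.fixU.trans hcent) (hcent ha.fixC) hTi hlt
    have hxN : (x : G) ∈ L ⊓ N := hNI ▸ mem_map_of_mem _ hx
    have huT := ha.fixU hu
    have hcopA : (Nat.card (zpowers u)).Coprime (Nat.card O) := by
      obtain ⟨i, hi⟩ := IsPGroup.iff_orderOf.mp ha.pgroup ⟨u, hu⟩
      rw [Subgroup.orderOf_mk] at hi
      rw [Nat.card_zpowers, hi]
      exact (hOc.pow_right i).symm
    obtain ⟨o, ho, hfix⟩ := Cfsg.Lib.Coprime.exists_fixed_of_commutator_mem (A := zpowers u) (N := O)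
      ((zpowers_le.mpr (hcent huT)).trans hNO) hcopA (Or.inl inferInstance)
      (k := (x : G)) (hNO hxN.2) fun a ha' => by
        have h1 := hOU (commutator_mem_commutator hxN (zpowers_le.mpr hu ha'))
        have h2 := inv_mem h1
        rwa [commutatorElement_inv] at h2
    have hRLN : R ≤ L ⊓ N := le_inf (map_subtype_le _) le_normalizer
    have hoR : ∀ r ∈ R, o * r = r * o := fun r hr => by
      refine commutatorElement_eq_one_iff_mul_comm.mp (eq_one_of_pgroup_coprime hRp hOc ?_ ?_)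
      · have h1 : O ≤ normalizer (R : Set G) := hOLN.trans inf_le_right
        exact (commutator_le_inf h1 ((hRLN.trans inf_le_right).trans hNO)
          (commutator_mem_commutator ho hr)).2
      · exact (commutator_le_inf (hOLN.trans inf_le_right : O ≤ normalizer (R : Set G))
          ((hRLN.trans inf_le_right).trans hNO) (commutator_mem_commutator ho hr)).1
    refine ⟨(x : G) * o, ⟨mul_mem x.2 (hOLN ho).1, ?_⟩, fun b hb => ?_⟩
    · rw [← centralizer_closure, ← zpowers_eq_closure]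
      exact hfix
    · have hbx : (x : G)⁻¹ * b * x ∈ R := by
        have h := (mem_normalizer_iff.mp (inv_mem hxN.2) (b : G)).mp (hBR b hb)
        rwa [inv_inv] at h
      calc ((x : G) * o)⁻¹ * b * (x * o) = o⁻¹ * (((x : G)⁻¹ * b * x) * o) := by group
        _ = o⁻¹ * (o * ((x : G)⁻¹ * b * x)) := by rw [hoR _ hbx]
        _ = _ := by group

/-- an involution of `U` centralizes `L` -/
theorem involution_centralizes (ih : IH.{u} (Nat.card L)) (ha : Acts L U c T)
    (hO : ∀ Y : Subgroup G, Y ≤ L → L ≤ normalizer (Y : Set G) → (Nat.card Y).Coprime 2 → Y = ⊥)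
    (hW : ∀ Y : Subgroup G, Y ≤ L → L ≤ normalizer (Y : Set G) → IsPGroup 2 Y → Y = ⊥)
    {u : G} (hu : u ∈ U) (hu2 : orderOf u = 2) : u ∈ centralizer (L : Set G) := by
  haveI : Fact (Nat.Prime 2) := ⟨Nat.prime_two⟩
  have huT := ha.fixU hu
  have huu : u * u = 1 := by rw [← pow_two, ← hu2, pow_orderOf_eq_one]
  set M := L ⊓ centralizer ({u} : Set G) with hM
  have hTM : T ≤ M := le_inf ha.le fun t ht => mem_centralizer_singleton_iff.mpr
    (mem_centralizer_iff.mp huT t ht)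
  have hTMi : ¬ 2 ∣ T.relIndex M := fun h => ha.sylI (h.trans (by
    rw [← relIndex_mul_relIndex T M L hTM inf_le_left]; exact dvd_mul_right _ _))
  have hMu : ∀ m ∈ M, m⁻¹ * u * m = u := fun m hm => by
    rw [mul_assoc, ← mem_centralizer_singleton_iff.mp hm.2, inv_mul_cancel_left]
  -- `u` has no other commuting conjugate under `L`
  have key : ∀ g ∈ L, Commute u (g * u * g⁻¹) → g * u * g⁻¹ = u := by
    intro g hg hcomm
    by_contra hne
    set s := u * (g * u * g⁻¹) with hs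
    have hsL : s ∈ L := by
      rw [hs, show u * (g * u * g⁻¹) = (u * g * u⁻¹) * g⁻¹ * (g * (u * u) * g⁻¹) by group, huu]
      simpa using mul_mem (hLn.conj_mem g hg u) (inv_mem hg)
    have hs1 : s ≠ 1 := fun h => hne (by
      calc g * u * g⁻¹ = u * s := by rw [hs, ← mul_assoc, huu, one_mul]
        _ = u := by rw [h, mul_one])
    have hss : s * s = 1 := by
      rw [hs, show u * (g * u * g⁻¹) * (u * (g * u * g⁻¹)) = u * ((g * u * g⁻¹) * u) * (g * u * g⁻¹) by group,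
        ← hcomm.eq]
      simp only [← mul_assoc]
      rw [huu, one_mul, show g * u * g⁻¹ * g * u * g⁻¹ = g * (u * u) * g⁻¹ by group, huu]
      group
    have hsM : s ∈ M := ⟨hsL, mem_centralizer_singleton_iff.mpr (by
      rw [hs, mul_assoc u, ← hcomm.eq])⟩
    have hgu : g * u * g⁻¹ = u * s := by rw [hs, ← mul_assoc, huu, one_mul]
    have hzp : IsPGroup 2 (zpowers s) := by
      refine IsPGroup.of_card_dvd_pow (n := 1) ?_
      rw [Nat.card_zpowers, pow_one]
      exact orderOf_dvd_of_pow_eq_one (by rw [pow_two, hss])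
    -- move `s` into `T`
    obtain ⟨k, hk, hkT⟩ := exists_conj_le hTM ha.sylP hTMi (zpowers_le.mpr hsM) hzp
    set s₁ := k⁻¹ * s * k with hs₁
    have hs₁T : s₁ ∈ T := hkT ⟨s, mem_zpowers s, rfl⟩
    set g₁ := k⁻¹ * g
    have hg₁ : g₁ ∈ L := mul_mem (inv_mem hk.1) hg
    have hgu₁ : g₁ * u * g₁⁻¹ = u * s₁ := by
      calc g₁ * u * g₁⁻¹ = k⁻¹ * (g * u * g⁻¹) * k := by simp only [g₁]; group
        _ = (k⁻¹ * u * k) * (k⁻¹ * s * k) := by rw [hgu]; group
        _ = u * s₁ := by rw [hMu k hk]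
    have hs₁1 : s₁ ≠ 1 := fun h => hs1 (by
      have h2 : s = k * s₁ * k⁻¹ := by rw [hs₁]; group
      rw [h2, h]; group)
    have hs₁s : s₁ * s₁ = 1 := by
      rw [hs₁, show k⁻¹ * s * k * (k⁻¹ * s * k) = k⁻¹ * (s * s) * k by group, hss]; group
    -- move it to a fully centralized place
    set C₁ := L ⊓ centralizer ({s₁} : Set G) with hC₁
    obtain ⟨Z, -, hTZ, hZC, -, hZp, hZi⟩ := exists_sylow_over (N := C₁) (K := T ⊓ centralizer ({s₁} : Set G))
      (inf_le_inf_right _ ha.le) (ha.sylP.to_le inf_le_left)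
    obtain ⟨h, hh, hhT⟩ := exists_conj_le ha.le ha.sylP ha.sylI (hZC.trans inf_le_left) hZp
    set s₂ := h⁻¹ * s₁ * h with hs₂
    have hs₂T : s₂ ∈ T := hhT ⟨s₁, hTZ ⟨hs₁T, mem_centralizer_singleton_iff.mpr rfl⟩, rfl⟩
    obtain ⟨m, hm, hm'⟩ := fusion ih ha hW hu {s₁} (Set.singleton_subset_iff.mpr hs₁T) hh
      (fun a ha' => by rw [Set.mem_singleton_iff] at ha'; rw [ha']; exact hs₂T)
    have hms : m⁻¹ * s₁ * m = s₂ := hm' s₁ rfl
    set g₂ := m⁻¹ * g₁
    have hg₂ : g₂ ∈ L := mul_mem (inv_mem hm.1) hg₁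
    have hgu₂ : g₂ * u * g₂⁻¹ = u * s₂ := by
      calc g₂ * u * g₂⁻¹ = m⁻¹ * (g₁ * u * g₁⁻¹) * m := by simp only [g₂]; group
        _ = (m⁻¹ * u * m) * (m⁻¹ * s₁ * m) := by rw [hgu₁]; group
        _ = u * s₂ := by rw [hMu m hm, hms]
    have hs₂1 : s₂ ≠ 1 := fun h' => hs₁1 (by
      have h2 : s₁ = h * s₂ * h⁻¹ := by rw [hs₂]; group
      rw [h2, h']; group)
    have hs₂s : s₂ * s₂ = 1 := by
      rw [hs₂, show h⁻¹ * s₁ * h * (h⁻¹ * s₁ * h) = h⁻¹ * (s₁ * s₁) * h by group, hs₁s]; group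
    set N := centralizer ({s₂} : Set G) with hN
    -- `T ∩ N` is a Sylow subgroup of `C_L(s₂)`
    have hTi : ¬ 2 ∣ (T ⊓ N).relIndex (L ⊓ N) := by
      set φ := (MulAut.conj h⁻¹).toMonoidHom
      have hφ : ∀ y, φ y = h⁻¹ * y * h := fun y => by show h⁻¹ * y * h⁻¹⁻¹ = _; rw [inv_inv]
      have hCmap : C₁.map φ = L ⊓ N := by
        ext y
        constructor
        · rintro ⟨y', hy', rfl⟩
          rw [hφ]
          refine mem_inf.mpr ⟨mul_mem (mul_mem (inv_mem hh) hy'.1) hh, mem_centralizer_singleton_iff.mpr ?_⟩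
          calc h⁻¹ * y' * h * s₂ = h⁻¹ * (y' * s₁) * h := by rw [hs₂]; group
            _ = h⁻¹ * (s₁ * y') * h := by rw [mem_centralizer_singleton_iff.mp hy'.2]
            _ = _ := by rw [hs₂]; group
        · rintro ⟨hyL, hyN⟩
          refine ⟨h * y * h⁻¹, mem_inf.mpr ⟨mul_mem (mul_mem hh hyL) (inv_mem hh), mem_centralizer_singleton_iff.mpr ?_⟩, ?_⟩
          · calc h * y * h⁻¹ * s₁ = h * (y * s₂) * h⁻¹ := by rw [hs₂]; group
              _ = h * (s₂ * y) * h⁻¹ := by rw [mem_centralizer_singleton_iff.mp hyN]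
              _ = _ := by rw [hs₂]; group
          · rw [hφ]; group
      have hZmap : Z.map φ ≤ T ⊓ N := by
        refine le_inf ?_ ((map_mono hZC).trans (hCmap.le.trans inf_le_right))
        rintro _ ⟨y, hy, rfl⟩
        rw [hφ]
        exact hhT ⟨y, hy, rfl⟩
      intro hd
      apply hZi
      rw [← relIndex_map_map_of_injective _ _ (show Function.Injective φ from (MulAut.conj h⁻¹).injective),
        hCmap]
      exact hd.trans (relIndex_dvd_of_le_left _ hZmap)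
    have hwit : u ∈ N := mem_centralizer_singleton_iff.mpr (mem_centralizer_iff.mp huT s₂ hs₂T).symm
    have hcent : centralizer (T : Set G) ≤ N := centralizer_le (Set.singleton_subset_iff.mpr hs₂T)
    have hlt := card_inf_lt (L := L) (N := N) fun hle => by
      have hz : zpowers s₂ = ⊥ := hW (zpowers s₂) (zpowers_le.mpr (ha.le hs₂T)) (fun y hy =>
        centralizer_le_normalizer _ (by
          rw [zpowers_eq_closure, centralizer_closure]; exact hle hy))
        (ha.sylP.to_le (zpowers_le.mpr hs₂T))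
      exact hs₂1 (zpowers_eq_bot.mp hz)
    obtain ⟨O, hOLN, hOc, -, hOU⟩ := descend ih ha.pgroup ha.gen ha.le ha.sylP ha.fixU ha.fixC
      (ha.fixU.trans hcent) (hcent ha.fixC) hTi hlt
    -- the element of `C_L(s₂)` moving `u` to `u * s₂`
    set w := g₂⁻¹ * s₂ * g₂ with hw
    have hwL : w ∈ L := mul_mem (mul_mem (inv_mem hg₂) (ha.le hs₂T)) hg₂
    have hgw : g₂⁻¹ * u * g₂ = u * w := by
      have h1 : u = g₂⁻¹ * (u * s₂) * g₂ := by rw [← hgu₂]; group
      have h2 : u * w⁻¹ = g₂⁻¹ * u * g₂ := by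
        nth_rewrite 1 [h1]
        rw [hw]; group
      have hwinv : w⁻¹ = w := by
        rw [inv_eq_iff_mul_eq_one, hw,
          show g₂⁻¹ * s₂ * g₂ * (g₂⁻¹ * s₂ * g₂) = g₂⁻¹ * (s₂ * s₂) * g₂ by group, hs₂s]
        group
      rw [← h2, hwinv]
    have hus : u * s₂ = s₂ * u := (mem_centralizer_iff.mp huT s₂ hs₂T).symm
    have hwu : w * u = u * w := by
      have h1 : u = g₂⁻¹ * (u * s₂) * g₂ := by rw [← hgu₂]; group
      calc w * u = g₂⁻¹ * (s₂ * (u * s₂)) * g₂ := by nth_rewrite 1 [h1]; rw [hw]; group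
        _ = g₂⁻¹ * ((u * s₂) * s₂) * g₂ := by rw [← mul_assoc s₂ u s₂, ← hus]
        _ = u * w := by nth_rewrite 2 [h1]; rw [hw]; group
    have hwM : w ∈ M := ⟨hwL, mem_centralizer_singleton_iff.mpr hwu⟩
    have hwp : IsPGroup 2 (zpowers w) := by
      refine IsPGroup.of_card_dvd_pow (n := 1) ?_
      rw [Nat.card_zpowers, pow_one]
      refine orderOf_dvd_of_pow_eq_one ?_
      rw [pow_two, hw, show g₂⁻¹ * s₂ * g₂ * (g₂⁻¹ * s₂ * g₂) = g₂⁻¹ * (s₂ * s₂) * g₂ by group, hs₂s]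
      group
    obtain ⟨k₂, hk₂, hk₂T⟩ := exists_conj_le hTM ha.sylP hTMi (zpowers_le.mpr hwM) hwp
    have hwT : k₂⁻¹ * w * k₂ ∈ T := hk₂T ⟨w, mem_zpowers w, rfl⟩
    have hconj : (g₂ * k₂)⁻¹ * s₂ * (g₂ * k₂) = k₂⁻¹ * w * k₂ := by rw [hw]; group
    obtain ⟨m₂, hm₂, hm₂'⟩ := fusion ih ha hW hu {s₂} (Set.singleton_subset_iff.mpr hs₂T)
      (mul_mem hg₂ hk₂.1) (fun a ha' => by rw [Set.mem_singleton_iff] at ha'; rw [ha', hconj]; exact hwT)
    have hm₂s : m₂⁻¹ * s₂ * m₂ = k₂⁻¹ * w * k₂ := (hm₂' s₂ rfl).trans hconj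
    set y := g₂ * k₂ * m₂⁻¹
    have hyL : y ∈ L := mul_mem (mul_mem hg₂ hk₂.1) (inv_mem hm₂.1)
    have hys : y⁻¹ * s₂ * y = s₂ := by
      calc y⁻¹ * s₂ * y = m₂ * (k₂⁻¹ * (g₂⁻¹ * s₂ * g₂) * k₂) * m₂⁻¹ := by simp only [y]; group
        _ = s₂ := by rw [← hw, ← hm₂s]; group
    have hyu : y⁻¹ * u * y = u * s₂ := by
      calc y⁻¹ * u * y = m₂ * (k₂⁻¹ * (g₂⁻¹ * u * g₂) * k₂) * m₂⁻¹ := by simp only [y]; group
        _ = (m₂ * (k₂⁻¹ * u * k₂) * m₂⁻¹) * (m₂ * (k₂⁻¹ * w * k₂) * m₂⁻¹) := by rw [hgw]; group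
        _ = u * s₂ := by
          rw [hMu k₂ hk₂, ← hm₂s]
          have h3 := hMu m₂⁻¹ (inv_mem hm₂)
          rw [inv_inv] at h3
          rw [h3]; group
    have hyN : y ∈ L ⊓ N := ⟨hyL, mem_centralizer_singleton_iff.mpr (by
      calc y * s₂ = y * (y⁻¹ * s₂ * y) := by rw [hys]
        _ = s₂ * y := by group)⟩
    have hsO : s₂ ∈ O := by
      have h1 : ⁅y⁻¹, u⁆ ∈ O := hOU (commutator_mem_commutator (inv_mem hyN) hu)
      rw [commutatorElement_def, inv_inv, hyu, hus, mul_inv_cancel_right] at h1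
      exact h1
    exact hs₂1 (eq_one_of_pgroup_coprime ha.sylP hOc hs₂T hsO)
  -- apply the Z*-theorem
  set X := L ⊔ zpowers u with hX
  have huX : u ∈ X := mem_sup_right (mem_zpowers u)
  have hiso : Cfsg.IsIsolatedInvolution (⟨u, huX⟩ : X) := by
    refine ⟨by rw [Subgroup.orderOf_mk, hu2], fun g hc => Subtype.ext ?_⟩
    obtain ⟨l, hl, v, hv, hlv⟩ := (Cfsg.Lib.Coprime.mem_sup_of_le_normalizer
      (le_normalizer_of_normal : zpowers u ≤ normalizer (L : Set G))).mp g.2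
    have hvu : v * u * v⁻¹ = u := by
      obtain ⟨i, rfl⟩ := mem_zpowers_iff.mp hv
      rw [(Commute.zpow_self u i).eq, mul_inv_cancel_right]
    have hgl : (g : G) * u * (g : G)⁻¹ = l * u * l⁻¹ := by
      rw [← hlv, show l * v * u * (l * v)⁻¹ = l * (v * u * v⁻¹) * l⁻¹ by group, hvu]
    have hc' : Commute u ((g : G) * u * (g : G)⁻¹) := congrArg Subtype.val hc
    show (g : G) * u * (g : G)⁻¹ = u
    rw [hgl] at hc' ⊢
    exact key l hl hc'
  refine mem_centralizer_iff.mpr fun g hg => ?_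
  have hz := Cfsg.Lib.ZStarApps.zstarProp hiso ⟨g, mem_sup_left hg⟩
  set Y := (Cfsg.pPrimeCore 2 X).map X.subtype ⊓ L with hY
  have hYbot : Y = ⊥ := by
    refine hO Y inf_le_right (fun y hy => ?_) ?_
    · refine inf_normalizer_le_normalizer_inf ⟨?_, le_normalizer hy⟩
      exact Cfsg.Lib.GenFittingAction.le_normalizer_map_char X _ (le_normalizer (mem_sup_left hy))
    · refine Nat.Coprime.coprime_dvd_left (card_dvd_of_le inf_le_left) ?_
      rw [card_map_of_injective X.subtype_injective]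
      exact coprime_card_pPrimeCore 2
  have hmem : u * g * u⁻¹ * g⁻¹ ∈ Y :=
    mem_inf.mpr ⟨⟨_, hz, rfl⟩, mul_mem (hLn.conj_mem g hg u) (inv_mem hg)⟩
  rw [hYbot, mem_bot] at hmem
  exact (mul_inv_eq_iff_eq_mul.mp (mul_inv_eq_one.mp hmem)).symm

end Fusion

end Cfsg.Lib.LBalTwo
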