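import Cfsg.Agent.Components.LBalanceTwo.Glauberman
import Cfsg.Agent.Coprime.Action
import Cfsg.Agent.Components.LBalance
import Cfsg.Agent.Transfer.Frobenius

/-!
The centralization theorem and its consequence for groups without proper normal subgroups of odd index.
-/

set_option linter.style.haveILetI false
set_option linter.unusedSectionVars false

namespace Cfsg.Lib.LBalTwo

open Subgroup Cfsg.Lib.Components
open scoped commutatorElement

universe u

theorem normal_map_of_char {G : Type u} [Group G] (L : Subgroup G) [L.Normal] (C : Subgroup L)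
    [C.Characteristic] : (C.map L.subtype).Normal := ConjAct.normal_of_characteristic_of_normal

theorem card_map_lt {G H : Type u} [Group G] [Group H] [Finite G] [Finite H] (f : G →* H) {L : Subgroup G}
    (h : L ⊓ f.ker ≠ ⊥) : Nat.card (L.map f) < Nat.card L := by
  have h1 := (f.comp L.subtype).ker.card_mul_index
  rw [index_ker, MonoidHom.range_comp, range_subtype] at h1
  have h2 : 1 < Nat.card (f.comp L.subtype).ker := by
    rw [Nat.one_lt_iff_ne_zero_and_ne_one]
    refine ⟨Nat.card_pos.ne', fun he => h ?_⟩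
    have hb := eq_bot_of_card_eq _ he
    rw [eq_bot_iff]
    rintro x ⟨hx, hxk⟩
    have : (⟨x, hx⟩ : L) ∈ (f.comp L.subtype).ker := hxk
    rw [hb, mem_bot] at this
    exact mem_bot.mpr (congrArg Subtype.val this)
  calc Nat.card (L.map f) = 1 * Nat.card (L.map f) := (one_mul _).symm
    _ < Nat.card (f.comp L.subtype).ker * Nat.card (L.map f) := Nat.mul_lt_mul_of_pos_right h2 Nat.card_pos
    _ = Nat.card L := h1

theorem card_eq_mul {G H : Type u} [Group G] [Group H] [Finite G] (f : G →* H) (L : Subgroup G) :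
    Nat.card L = Nat.card (L ⊓ f.ker : Subgroup G) * Nat.card (L.map f) := by
  have h1 := (f.comp L.subtype).ker.card_mul_index
  rw [index_ker, MonoidHom.range_comp, range_subtype] at h1
  rw [← h1]
  congr 1
  rw [← MonoidHom.comap_ker, show comap L.subtype f.ker = f.ker.subgroupOf L from rfl, ← inf_subgroupOf_left f.ker L]
  exact Nat.card_congr (subgroupOfEquivOfLe inf_le_left).toEquiv

theorem acts_map {G H : Type u} [Group G] [Group H] (π : G →* H) {L U T : Subgroup G} {c : G}
    (ha : Acts L U c T) : Acts (L.map π) (U.map π) (π c) (T.map π) where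
  pgroup := ha.pgroup.map π
  gen := by rw [← MonoidHom.map_zpowers, ← map_commutator, ha.gen]
  le := map_mono ha.le
  sylP := ha.sylP.map π
  sylI := fun hd => ha.sylI (hd.trans (by
    rw [← relIndex_comap]
    exact relIndex_dvd_of_le_left _ (le_comap_map π T)))
  fixU := by
    rintro _ ⟨v, hv, rfl⟩
    refine mem_centralizer_iff.mpr ?_
    rintro _ ⟨t, ht, rfl⟩
    rw [← map_mul, ← map_mul, mem_centralizer_iff.mp (ha.fixU hv) t ht]
  fixC := by
    refine mem_centralizer_iff.mpr ?_
    rintro _ ⟨t, ht, rfl⟩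
    rw [← map_mul, ← map_mul, mem_centralizer_iff.mp ha.fixC t ht]

/-- the main theorem -/
theorem main (n : ℕ) : ∀ (G : Type u) [Group G] [Finite G] (L U : Subgroup G) (c : G) (T : Subgroup G),
    L.Normal → Nat.card L = n → Acts L U c T → Concl L U := by
  induction n using Nat.strong_induction_on with
  | _ n ihn =>
  intro G _ _ L U c T hLn hn ha
  subst hn
  haveI := hLn
  haveI : Fact (Nat.Prime 2) := ⟨Nat.prime_two⟩
  have ih : IH.{u} (Nat.card L) := fun m hm G' _ _ L' U' c' T' => ihn m hm G' L' U' c' T'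
  set O₁ := (Cfsg.pPrimeCore 2 L).map L.subtype with hO₁
  haveI : O₁.Normal := normal_map_of_char L _
  by_cases hO₁b : O₁ = ⊥
  swap
  · set π := QuotientGroup.mk' O₁
    have hlt : Nat.card (L.map π) < Nat.card L := card_map_lt π fun h => hO₁b (by
      rw [QuotientGroup.ker_mk', inf_eq_right.mpr (map_subtype_le _)] at h
      exact h)
    obtain ⟨O', hO'L, hO'c, hO'n, hO'⟩ := ihn _ hlt _ (L.map π) (U.map π) (π c) (T.map π)
      (hLn.map π (QuotientGroup.mk'_surjective _)) rfl (acts_map π ha)
    haveI := hO'n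
    refine ⟨L ⊓ O'.comap π, inf_le_left, ?_, Subgroup.normal_inf_normal _ _, le_inf ?_ ?_⟩
    · rw [card_eq_mul π]
      refine Nat.Coprime.mul_left (Nat.Coprime.coprime_dvd_left (card_dvd_of_le inf_le_right) ?_)
        (hO'c.coprime_dvd_left (card_dvd_of_le ((map_mono inf_le_right).trans (map_comap_le π O'))))
      rw [QuotientGroup.ker_mk', hO₁, card_map_of_injective L.subtype_injective]
      exact coprime_card_pPrimeCore 2
    · exact commutator_le_left L U
    · rw [← map_le_iff_le_comap, map_commutator]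
      exact hO'
  have hO : ∀ Y : Subgroup G, Y ≤ L → L ≤ normalizer (Y : Set G) → (Nat.card Y).Coprime 2 → Y = ⊥ := by
    intro Y hYL hLY hY
    haveI : (Y.subgroupOf L).Normal := normal_subgroupOf_of_le_normalizer hLY
    have h := map_mono (f := L.subtype) (le_pPrimeCore (p := 2) (N := Y.subgroupOf L)
      (by rwa [Nat.card_congr (subgroupOfEquivOfLe hYL).toEquiv]))
    rw [subgroupOf_map_subtype, inf_eq_left.mpr hYL] at h
    exact le_bot_iff.mp (h.trans hO₁b.le)
  suffices hbot : ⁅L, U⁆ = ⊥ by
    exact ⟨⊥, bot_le, by simp, inferInstance, hbot.le⟩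
  set W := (Cfsg.pCore 2 L).map L.subtype with hW'
  haveI : W.Normal := normal_map_of_char L _
  have hWp : IsPGroup 2 W := (isPGroup_pCore 2).map _
  have hWT : W ≤ T := le_of_normalized ha.le ha.sylP ha.sylI (map_subtype_le _) hWp le_normalizer_of_normal
  by_cases hWb : W = ⊥
  · have hW : ∀ Y : Subgroup G, Y ≤ L → L ≤ normalizer (Y : Set G) → IsPGroup 2 Y → Y = ⊥ := by
      intro Y hYL hLY hY
      haveI : (Y.subgroupOf L).Normal := normal_subgroupOf_of_le_normalizer hLY
      have h := map_mono (f := L.subtype) (le_pCore (p := 2) (N := Y.subgroupOf L) hY.comap_subtype)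
      rw [subgroupOf_map_subtype, inf_eq_left.mpr hYL] at h
      exact le_bot_iff.mp (h.trans hWb.le)
    set K := centralizer (L : Set G) with hK
    haveI : K.Normal := inferInstance
    have hLK : L ⊓ K = ⊥ := by
      refine hW _ inf_le_left le_normalizer_of_normal (isPGroup_of_abelian hO inf_le_left
        le_normalizer_of_normal fun a haA b hbA => ?_)
      exact mem_centralizer_iff.mp hbA.2 a haA.1
    set π := QuotientGroup.mk' K
    have hcard : Nat.card (L.map π) = Nat.card L := by
      rw [card_eq_mul π L, QuotientGroup.ker_mk', hLK, card_bot, one_mul]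
    have htrans : ∀ Y : Subgroup (G ⧸ K), Y ≤ L.map π → L.map π ≤ normalizer (Y : Set (G ⧸ K)) →
        ∀ P : ℕ → Prop, P (Nat.card Y) → (∀ Y' : Subgroup G, Y' ≤ L → L ≤ normalizer (Y' : Set G) →
          P (Nat.card Y') → Y' = ⊥) → Y = ⊥ := by
      intro Y hYL hLY P hY hP
      have hmap : (L ⊓ Y.comap π).map π = Y := by
        refine le_antisymm ((map_mono inf_le_right).trans (map_comap_le π Y)) fun y hy => ?_
        obtain ⟨x, hx, rfl⟩ := hYL hy
        exact ⟨x, ⟨hx, hy⟩, rfl⟩
      have hc : Nat.card (L ⊓ Y.comap π : Subgroup G) = Nat.card Y := by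
        have h := card_eq_mul π (L ⊓ Y.comap π)
        rwa [hmap, QuotientGroup.ker_mk', eq_bot_iff.mpr
          ((inf_le_inf_right K (inf_le_left : L ⊓ Y.comap π ≤ L)).trans hLK.le), card_bot, one_mul] at h
      have h0 := hP (L ⊓ Y.comap π) inf_le_left (fun g hg => inf_normalizer_le_normalizer_inf
        ⟨le_normalizer hg, le_normalizer_comap π (show π g ∈ normalizer (Y : Set (G ⧸ K)) from
          hLY (mem_map_of_mem _ hg))⟩) (hc ▸ hY)
      rw [← hmap, h0, Subgroup.map_bot]
    rw [commutator_comm, commutator_eq_bot_iff_le_centralizer]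
    by_contra hUK
    have hne : U.map π ≠ ⊥ := fun h => hUK (by
      rwa [Subgroup.map_eq_bot_iff, QuotientGroup.ker_mk'] at h)
    haveI : Nontrivial (U.map π : Subgroup (G ⧸ K)) := (nontrivial_iff_ne_bot _).mpr hne
    obtain ⟨⟨u', hu'⟩, hu'2⟩ := exists_prime_orderOf_dvd_card' (G := (U.map π : Subgroup (G ⧸ K))) 2
      ((ha.pgroup.map π).card_eq_or_dvd.resolve_left (Finite.one_lt_card (α := (U.map π : Subgroup (G ⧸ K)))).ne')
    rw [Subgroup.orderOf_mk] at hu'2
    haveI : (L.map π).Normal := hLn.map π (QuotientGroup.mk'_surjective _)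
    have hcent := involution_centralizes (hcard.symm ▸ ih) (acts_map π ha)
      (fun Y h1 h2 h3 => htrans Y h1 h2 (fun k => k.Coprime 2) h3 hO)
      (fun Y h1 h2 h3 => by
        obtain ⟨k, hk⟩ := IsPGroup.iff_card.mp h3
        exact htrans Y h1 h2 (fun j => j = 2 ^ k) hk fun Y' a b e => hW Y' a b (IsPGroup.of_card e))
      hu' hu'2
    obtain ⟨v, hv, rfl⟩ := hu'
    have hvK : v ∈ K := mem_centralizer_iff.mpr fun l hl => by
      refine (commutatorElement_eq_one_iff_mul_comm.mp ?_)
      have h1 : ⁅l, v⁆ ∈ L ⊓ K := by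
        refine ⟨commutator_le_left L U (commutator_mem_commutator hl hv), ?_⟩
        refine (QuotientGroup.eq_one_iff (N := K) _).mp ?_
        show π ⁅l, v⁆ = 1
        rw [map_commutatorElement, commutatorElement_eq_one_iff_mul_comm]
        exact mem_centralizer_iff.mp hcent _ (mem_map_of_mem _ hl)
      rwa [hLK, mem_bot] at h1
    rw [show π v = 1 from (QuotientGroup.eq_one_iff v).mpr hvK, orderOf_one] at hu'2
    omega
  -- `W` is nontrivial
  set D := L ⊓ centralizer (W : Set G) with hD
  haveI : D.Normal := Subgroup.normal_inf_normal _ _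
  by_cases hDL : D = L
  · have hWc : ∀ a ∈ W, ∀ b ∈ W, a * b = b * a := fun a haW b hbW => by
      have h : a ∈ L ⊓ centralizer (W : Set G) := hD ▸ hDL.symm ▸ map_subtype_le _ haW
      exact (mem_centralizer_iff.mp h.2 b hbW).symm
    set π := QuotientGroup.mk' W
    have hlt : Nat.card (L.map π) < Nat.card L := card_map_lt π fun h => hWb (by
      rw [QuotientGroup.ker_mk', inf_eq_right.mpr (map_subtype_le _)] at h
      exact h)
    obtain ⟨O', hO'L, hO'c, hO'n, hO'⟩ := ihn _ hlt _ (L.map π) (U.map π) (π c) (T.map π)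
      (hLn.map π (QuotientGroup.mk'_surjective _)) rfl (acts_map π ha)
    haveI := hO'n
    set P := L ⊓ O'.comap π with hP
    haveI : P.Normal := Subgroup.normal_inf_normal _ _
    have hWP : W ≤ P := le_inf (map_subtype_le _) fun w hw => by
      show π w ∈ O'
      rw [show π w = 1 from (QuotientGroup.eq_one_iff w).mpr hw]; exact one_mem _
    have hPW : P ≤ W := by
      have hidx : (W.subgroupOf P).index.Coprime 2 := by
        have h1 := card_eq_mul π P
        rw [QuotientGroup.ker_mk', inf_eq_right.mpr hWP] at h1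
        have h2 := (W.subgroupOf P).card_mul_index
        rw [Nat.card_congr (subgroupOfEquivOfLe hWP).toEquiv, h1] at h2
        rw [Nat.eq_of_mul_eq_mul_left Nat.card_pos h2]
        exact hO'c.coprime_dvd_left (card_dvd_of_le ((map_mono inf_le_right).trans (map_comap_le π O')))
      have hWPp : IsPGroup 2 (W.subgroupOf P) := hWp.comap_subtype
      obtain ⟨k, hk⟩ := IsPGroup.iff_card.mp hWPp
      have hidx' : Nat.Coprime (Nat.card (W.subgroupOf P)) (W.subgroupOf P).index := by
        rw [hk]; exact (hidx.pow_right k).symm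
      obtain ⟨Hc, hHc⟩ := exists_right_complement'_of_coprime hidx'
      have hcardH : Nat.card Hc = (W.subgroupOf P).index := by
        have e1 := hHc.card_mul_card
        rw [← (W.subgroupOf P).card_mul_index] at e1
        exact Nat.eq_of_mul_eq_mul_left Nat.card_pos e1
      have hHn : P ≤ normalizer ((Hc.map P.subtype : Subgroup G) : Set G) := by
        intro g hg
        have hgsup : (⟨g, hg⟩ : P) ∈ W.subgroupOf P ⊔ Hc := hHc.sup_eq_top ▸ mem_top _
        obtain ⟨w, hw, x, hx, hwx⟩ := mem_sup_of_normal_left.mp hgsup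
        refine Cfsg.Lib.ZStarApps.mem_normalizer_of_maps ?_
        rintro _ ⟨y, hy, rfl⟩
        refine ⟨x * y * x⁻¹, mul_mem (mul_mem hx hy) (inv_mem hx), ?_⟩
        have hwc : (w : G) * ((x * y * x⁻¹ : P) : G) = ((x * y * x⁻¹ : P) : G) * w := by
          have h : ((x * y * x⁻¹ : P) : G) ∈ L ⊓ centralizer (W : Set G) :=
            hD ▸ hDL.symm ▸ (x * y * x⁻¹ : P).2.1
          exact mem_centralizer_iff.mp h.2 w hw
        have hge : g = (w : G) * x := (congrArg Subtype.val hwx).symm
        show ((x * y * x⁻¹ : P) : G) = g * (y : G) * g⁻¹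
        rw [hge, show (w : G) * x * y * ((w : G) * x)⁻¹ = (w : G) * ((x * y * x⁻¹ : P) : G) * (w : G)⁻¹ by
          simp only [Subgroup.coe_mul, Subgroup.coe_inv]; group, hwc]
        group
      have hHb : Hc.map P.subtype = ⊥ := odd_eq_bot (D := P) hO (map_subtype_le _) inf_le_left
        le_normalizer_of_normal hHn (by rw [card_map_of_injective P.subtype_injective, hcardH]; exact hidx)
      rw [map_eq_bot_iff_of_injective _ P.subtype_injective] at hHb
      rw [hHb] at hHc
      exact subgroupOf_eq_top.mp (isComplement'_bot_right.mp hHc)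
    refine commutator_eq_bot_of_abelian hWc hWp hWT ha.le ha.sylI ha.fixU ha.fixC ha.gen
      (le_trans (le_inf (commutator_le_left L U) ?_) hPW)
    rw [← map_le_iff_le_comap, map_commutator]
    exact hO'
  · have hlt : Nat.card (L ⊓ centralizer (W : Set G) : Subgroup G) < Nat.card L :=
      card_inf_lt fun h => hDL (inf_eq_left.mpr h)
    have hTD : IsPGroup 2 (T ⊓ D : Subgroup G) := ha.sylP.to_le inf_le_left
    have haD : Acts D U c (T ⊓ D) := ⟨ha.pgroup, ha.gen, inf_le_right, hTD,
      inf_relIndex_odd inf_le_left le_normalizer_of_normal ha.le ha.sylI,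
      ha.fixU.trans (centralizer_le (SetLike.coe_subset_coe.mpr inf_le_left)),
      centralizer_le (SetLike.coe_subset_coe.mpr inf_le_left) ha.fixC⟩
    obtain ⟨O, hOD, hOc, hOn, hO'⟩ := ihn _ hlt G D U c (T ⊓ D) inferInstance rfl haD
    haveI := hOn
    have hUD : ⁅D, U⁆ = ⊥ := le_bot_iff.mp (hO'.trans
      (hO O (hOD.trans inf_le_left) le_normalizer_of_normal hOc).le)
    have hLW : ⁅L, U⁆ ≤ D := by
      refine le_inf (commutator_le_left L U) ?_
      rw [← commutator_eq_bot_iff_le_centralizer]
      refine commutator_commutator_eq_bot_of_rotate ?_ ?_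
      · rw [commutator_eq_bot_iff_le_centralizer.mpr
          (ha.fixU.trans (centralizer_le (SetLike.coe_subset_coe.mpr hWT))), commutator_bot_left]
      · rw [eq_bot_iff]
        refine (commutator_mono (commutator_le_left W L) le_rfl).trans ?_
        rw [commutator_comm, commutator_eq_bot_iff_le_centralizer.mpr
          (ha.fixU.trans (centralizer_le (SetLike.coe_subset_coe.mpr hWT)))]
    have hLA : ⁅L, U⁆ ≤ D ⊓ centralizer (D : Set G) := by
      refine le_inf hLW ?_
      rw [← commutator_eq_bot_iff_le_centralizer]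
      refine commutator_commutator_eq_bot_of_rotate ?_ ?_
      · rw [commutator_comm U D, hUD, commutator_bot_left]
      · rw [eq_bot_iff]
        exact (commutator_mono (commutator_le_left D L) le_rfl).trans hUD.le
    haveI : (D ⊓ centralizer (D : Set G)).Normal := Subgroup.normal_inf_normal _ _
    have hAc : ∀ a ∈ D ⊓ centralizer (D : Set G), ∀ b ∈ D ⊓ centralizer (D : Set G), a * b = b * a :=
      fun a haA b hbA => mem_centralizer_iff.mp hbA.2 a haA.1
    have hA2 := isPGroup_of_abelian hO (inf_le_left.trans inf_le_left : D ⊓ centralizer (D : Set G) ≤ L)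
      le_normalizer_of_normal hAc
    exact commutator_eq_bot_of_abelian hAc hA2
      (le_of_normalized ha.le ha.sylP ha.sylI (inf_le_left.trans inf_le_left) hA2 le_normalizer_of_normal)
      ha.le ha.sylI ha.fixU ha.fixC ha.gen hLA

/-- a subgroup without proper normal subgroups of odd index which is perfect and centralizes a Sylow
`2`-subgroup of a normal subgroup `L` with trivial odd core centralizes `L` -/
theorem centralizes_of_sylow {G : Type u} [Group G] [Finite G] {L T Y : Subgroup G} [hLn : L.Normal]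
    (hO : ∀ Z : Subgroup G, Z ≤ L → L ≤ normalizer (Z : Set G) → (Nat.card Z).Coprime 2 → Z = ⊥)
    (hTL : T ≤ L) (hT : IsPGroup 2 T) (hTi : ¬ 2 ∣ T.relIndex L) (hY : ⁅Y, Y⁆ = Y)
    (hYodd : ∀ N : Subgroup Y, N.Normal → N.index.Coprime 2 → N = ⊤)
    (hYT : Y ≤ centralizer (T : Set G)) : ⁅L, Y⁆ = ⊥ := by
  haveI : Fact (Nat.Prime 2) := ⟨Nat.prime_two⟩
  set C := centralizer (L : Set G) with hC
  set K := C.subgroupOf Y with hK
  haveI : K.Normal := inferInstance
  set π := QuotientGroup.mk' K
  -- a `2`-group generated by its commutators with an element of `Y` lies in `C`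
  have hkill : ∀ (U : Subgroup Y) (c : Y), IsPGroup 2 U → ⁅U, zpowers c⁆ = U → U ≤ K := by
    intro U c hU hUc
    obtain ⟨O, hOL, hOc, hOn, hLU⟩ := main (Nat.card L) G L (U.map Y.subtype) (c : G) T hLn rfl
      ⟨hU.map _, by
          have h : (zpowers c).map Y.subtype = zpowers (c : G) := MonoidHom.map_zpowers Y.subtype c
          rw [← h, ← map_commutator, hUc],
        hTL, hT, hTi, (map_subtype_le U).trans hYT, hYT c.2⟩
    haveI := hOn
    rw [hO O hOL le_normalizer_of_normal hOc, le_bot_iff, commutator_comm,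
      commutator_eq_bot_iff_le_centralizer] at hLU
    exact fun v hv => mem_subgroupOf.mpr (hLU (mem_map_of_mem _ hv))
  -- Frobenius
  have hN : Cfsg.HasNormalPComplement 2 (Y ⧸ K) := by
    refine Cfsg.Lib.Transfer.hasNormalPComplement_of_frobenius fun Q hQ g hg hgc => ?_
    set P := Q.comap π with hP
    have hKP : K ≤ P := fun k hk => by
      show π k ∈ Q
      rw [show π k = 1 from (QuotientGroup.eq_one_iff k).mpr hk]; exact one_mem _
    obtain ⟨U₀⟩ := (inferInstance : Nonempty (Sylow 2 P))
    set U₁ := (U₀ : Subgroup P).map P.subtype with hU₁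
    have hU₁p : IsPGroup 2 U₁ := U₀.2.map _
    have hU₁P : U₁ ≤ P := map_subtype_le _
    -- `U₁` maps onto `Q`
    have hU₁Q : U₁.map π = Q := by
      have hle : U₁.map π ≤ Q := (map_mono hU₁P).trans (map_comap_le π Q)
      refine le_antisymm hle (relIndex_eq_one.mp ?_)
      obtain ⟨k, hk⟩ := IsPGroup.iff_card.mp hQ
      refine Cfsg.Lib.LocalIndex.dvd_pow_not_dvd (hk ▸ relIndex_dvd_card _ _) fun h2 => U₀.not_dvd_index ?_
      have hPQ : P.map π = Q := map_comap_eq_self_of_surjective (QuotientGroup.mk'_surjective _) Q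
      rw [← hPQ, ← relIndex_comap] at h2
      refine h2.trans ((relIndex_dvd_of_le_left _ (le_comap_map π U₁)).trans ?_)
      rw [relIndex, hU₁, subgroupOf, comap_map_eq_self_of_injective P.subtype_injective]
    -- Frattini
    obtain ⟨g', rfl⟩ := QuotientGroup.mk'_surjective K g
    have hg'P : g' ∈ normalizer (P : Set Y) := le_normalizer_comap π hg
    obtain ⟨y, hy, hy'⟩ := Cfsg.Lib.SolvStruct.Alperin.exists_conj_le (N := P) (K := U₁)
      (L := U₁.map (MulAut.conj g').toMonoidHom) hU₁P hU₁p
      (by rw [relIndex, hU₁, subgroupOf, comap_map_eq_self_of_injective P.subtype_injective]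
          exact U₀.not_dvd_index)
      (by
        rintro _ ⟨z, hz, rfl⟩
        exact (mem_normalizer_iff.mp hg'P z).mp (hU₁P hz))
      (hU₁p.map _)
    set d := y⁻¹ * g' with hd
    have hdN : d ∈ normalizer (U₁ : Set Y) := Cfsg.Lib.ZStarApps.mem_normalizer_of_maps fun z hz => by
      have := hy' ⟨g' * z * g'⁻¹, ⟨z, hz, rfl⟩, rfl⟩
      rwa [show d * z * d⁻¹ = y⁻¹ * (g' * z * g'⁻¹) * y by rw [hd]; group]
    have hdQ : π d = (π y)⁻¹ * π g' := by rw [hd, map_mul, map_inv]
    -- take the odd part of `d`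
    obtain ⟨e, m, hm, hem⟩ := Nat.exists_eq_pow_mul_and_not_dvd (n := orderOf d) (orderOf_pos d).ne' 2
      (by norm_num)
    have hU2 : ⁅⁅U₁, zpowers (d ^ 2 ^ e)⁆, zpowers (d ^ 2 ^ e)⁆ = ⁅U₁, zpowers (d ^ 2 ^ e)⁆ := by
      refine Cfsg.Lib.Coprime.commutator_commutator_eq (zpowers_le.mpr (pow_mem hdN _)) ?_
        (Or.inl inferInstance)
      obtain ⟨k, hk⟩ := IsPGroup.iff_card.mp hU₁p
      rw [hk, Nat.card_zpowers]
      refine Nat.Coprime.coprime_dvd_left (orderOf_dvd_of_pow_eq_one ?_) ((coprime_two hm).pow_right k)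
      rw [← pow_mul, ← hem, pow_orderOf_eq_one]
    have hcomm : ⁅U₁, zpowers (d ^ 2 ^ e)⁆ ≤ K := hkill _ _ (hU₁p.to_le
      (le_normalizer_iff_commutator_le_left.mp (zpowers_le.mpr (pow_mem hdN _)))) hU2
    have hde : π d ^ 2 ^ e ∈ centralizer (Q : Set (Y ⧸ K)) := by
      rw [← map_pow, mem_centralizer_iff, ← hU₁Q]
      rintro _ ⟨z, hz, rfl⟩
      rw [← map_mul, ← map_mul]
      refine (QuotientGroup.eq_iff_div_mem.mpr ?_ : π (z * d ^ 2 ^ e) = π (d ^ 2 ^ e * z))
      rw [div_eq_mul_inv, show z * d ^ 2 ^ e * (d ^ 2 ^ e * z)⁻¹ = ⁅z, d ^ 2 ^ e⁆ by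
        simp only [commutatorElement_def]; group]
      exact hcomm (commutator_mem_commutator hz (mem_zpowers _))
    -- `π g'` differs from `π d` by an element of `Q`
    have hyQ : π y ∈ Q := hy
    have hgd : π g' = π y * π d := by rw [hdQ, mul_inv_cancel_left]
    have hdNQ : π d ∈ normalizer (Q : Set (Y ⧸ K)) := by
      rw [hdQ]; exact mul_mem (inv_mem (le_normalizer hyQ)) hg
    set Cq := centralizer (Q : Set (Y ⧸ K)) with hCq
    -- in `N(Q)/C(Q)` the image of `g` is a product of two `2`-elements of a `2`-group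
    set N := normalizer (Q : Set (Y ⧸ K))
    haveI hCn : (Cq.subgroupOf N).Normal := normal_subgroupOf_of_le_normalizer fun g hg =>
      normalizer_le_normalizer_centralizer' Q hg
    set q := QuotientGroup.mk' (Cq.subgroupOf N)
    set R := ((Q.subgroupOf N).map q ⊔ zpowers (q ⟨π d, hdNQ⟩)) with hR
    have hRp : IsPGroup 2 R := by
      haveI : (Q.subgroupOf N).Normal := normal_in_normalizer
      haveI : ((Q.subgroupOf N).map q).Normal := Normal.map inferInstance q (QuotientGroup.mk'_surjective _)
      have hQN : IsPGroup 2 (Q.subgroupOf N) := hQ.comap_subtype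
      refine (hQN.map q).to_sup_of_normal_left (IsPGroup.of_card_dvd_pow (n := e) ?_)
      rw [Nat.card_zpowers]
      refine orderOf_dvd_of_pow_eq_one ?_
      rw [← map_pow]
      exact (QuotientGroup.eq_one_iff _).mpr (mem_subgroupOf.mpr (by simpa using hde))
    have hgR : q ⟨π g', hg⟩ ∈ R := by
      rw [show (⟨π g', hg⟩ : N) = ⟨π y, le_normalizer hyQ⟩ * ⟨π d, hdNQ⟩ from Subtype.ext hgd, map_mul]
      exact mul_mem_sup (mem_map_of_mem _ (mem_subgroupOf.mpr hyQ)) (mem_zpowers _)
    obtain ⟨i, hi⟩ := hRp ⟨_, hgR⟩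
    have hi' : q ⟨π g', hg⟩ ^ 2 ^ i = 1 := congrArg Subtype.val hi
    have hg1 : q ⟨π g', hg⟩ = 1 := by
      rw [← orderOf_eq_one_iff]
      refine Nat.eq_one_of_dvd_coprimes (hgc.pow_right i) ?_ (orderOf_dvd_of_pow_eq_one hi')
      exact (orderOf_map_dvd q _).trans (dvd_of_eq (Subgroup.orderOf_mk _ hg))
    exact mem_subgroupOf.mp ((QuotientGroup.eq_one_iff _).mp hg1)
  -- the complement
  obtain ⟨P, N, hNn, hcompl⟩ := hN
  haveI := hNn
  have hidxeq : N.index = Nat.card (P : Subgroup (Y ⧸ K)) := by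
    have e := hcompl.card_mul_card
    rw [← N.card_mul_index] at e
    exact (Nat.eq_of_mul_eq_mul_left Nat.card_pos e).symm
  have hidxN : IsPGroup 2 ((Y ⧸ K) ⧸ N) := by
    refine IsPGroup.of_card_dvd_pow (n := (Nat.card (Y ⧸ K)).factorization 2) ?_
    rw [← index_eq_card, hidxeq, P.card_eq_multiplicity]
  have hsol : Group.IsSolvable ((Y ⧸ K) ⧸ N) := by haveI := hidxN.isNilpotent; infer_instance
  have htriv := map_eq_one_of_perfect_solvable hY hsol ((QuotientGroup.mk' N).comp π)
  have hNtop : N = ⊤ := by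
    rw [eq_top_iff]
    intro z _
    obtain ⟨z', rfl⟩ := QuotientGroup.mk'_surjective K z
    exact (QuotientGroup.eq_one_iff _).mp (htriv z')
  have hKtop : K = ⊤ := by
    refine hYodd K inferInstance (coprime_two fun h2 => ?_)
    rw [index_eq_card] at h2
    have hP : Nat.card (P : Subgroup (Y ⧸ K)) = 1 := by
      rw [← hidxeq, hNtop, index_top]
    have h3 := P.dvd_card_of_dvd_card h2
    rw [hP] at h3
    exact absurd h3 (by norm_num)
  rw [commutator_comm, commutator_eq_bot_iff_le_centralizer]
  exact subgroupOf_eq_top.mp hKtop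

end Cfsg.Lib.LBalTwo
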